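import Groth.Agent.Etcore.ConstFGAbs
import Mathlib.GroupTheory.FiniteAbelian.Basic

/-!
# Classes with values in a torsion group come from a finite subgroup

`c : AddCommGrpCat ⥤ C` commuting with filtered colimits, `A : C` such that `Ext^q(A, -)` commutes with filtered
colimits. If `M` is torsion, every class in `Ext^q(A, c(M))` comes from a finite subgroup, hence is a finite sum of
classes coming from cyclic groups.
-/

set_option autoImplicit false

universe w v' v u

open CategoryTheory CategoryTheory.Limits CategoryTheory.Abelian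

namespace Groth.Agent.Etdl.H562.FinSub

open Groth.Agent.Etcore.ConstFGAbs

section Colim

variable (M : Type) [AddCommGroup M]

/-- The subgroup generated by a finite subset. -/
abbrev V (s : Finset M) : AddSubgroup M := AddSubgroup.closure (s : Set M)

/-- The system of subgroups generated by finite subsets. -/
def sys : Idx.{v'} M ⥤ AddCommGrpCat.{v'} where
  obj s := U (V M s.down)
  map h := up (AddSubgroup.inclusion (AddSubgroup.closure_mono
    (Finset.coe_subset.2 (ULift.down_le.2 h.le))))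
  map_id _ := rfl
  map_comp _ _ := rfl

/-- The cocone with point `M`. -/
def coc : Cocone (sys.{v'} M) where
  pt := U M
  ι :=
    { app := fun s => up (V M s.down).subtype
      naturality := fun _ _ _ => rfl }

theorem isColimit_coc : Nonempty (IsColimit (coc.{v'} M)) := by
  classical
  apply nonempty_isColimit
  · rintro ⟨x⟩
    exact ⟨⟨{x}⟩, ⟨⟨x, AddSubgroup.subset_closure (by simp)⟩⟩, rfl⟩
  · rintro ⟨s⟩ ⟨y⟩ ⟨z⟩ h
    exact congrArg ULift.up (Subtype.ext (congrArg ULift.down h))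

variable {M}

theorem finite_V (hM : ∀ m : M, ∃ n : ℕ, n ≠ 0 ∧ n • m = 0) (s : Finset M) : Finite (V M s) := by
  have h1 : AddGroup.FG (V M s) := by
    rw [AddGroup.fg_iff_addSubgroup_fg]
    exact ⟨s, rfl⟩
  refine AddCommGroup.finite_of_fg_isAddTorsion (V M s) ?_
  intro x
  obtain ⟨n, hn, hx⟩ := hM x.1
  rw [isOfFinAddOrder_iff_nsmul_eq_zero]
  exact ⟨n, Nat.pos_of_ne_zero hn, Subtype.ext hx⟩

end Colim

variable {C : Type u} [Category.{v} C] [Abelian C] [HasExt.{w} C]
variable (c : AddCommGrpCat.{v'} ⥤ C)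

open Groth.Agent.Etbase.ExtColim in
/-- Every class with values in `c(M)` comes from a finitely generated subgroup. -/
theorem exists_stage {M : Type} [AddCommGroup M]
    [HasColimitsOfShape (Idx.{v'} M) C] [PreservesColimitsOfShape (Idx.{v'} M) c]
    {A : C} {q : ℕ} (hA : FP.{w} (Idx.{v'} M) q A) (x : Ext A (c.obj (U M)) q) :
    ∃ (s : Finset M) (y : Ext A (c.obj (U (V M s))) q),
      x = y.comp (Ext.mk₀ (c.map (up (V M s).subtype))) (add_zero q) := by
  obtain ⟨hc⟩ := isColimit_coc.{v'} M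
  have hc' : IsColimit (c.mapCocone (coc.{v'} M)) := isColimitOfPreserves c hc
  let e : colimit (sys.{v'} M ⋙ c) ≅ c.obj (U M) :=
    (colimit.isColimit _).coconePointUniqueUpToIso hc'
  have he : ∀ s : Idx.{v'} M, colimit.ι (sys.{v'} M ⋙ c) s ≫ e.hom =
      c.map (up (V M s.down).subtype) :=
    fun s => (colimit.isColimit _).comp_coconePointUniqueUpToIso_hom hc' s
  obtain ⟨s, y, hy⟩ := (hA q le_rfl (sys.{v'} M ⋙ c)).1 (x.comp (Ext.mk₀ e.inv) (add_zero q))
  refine ⟨s.down, y, ?_⟩
  have h1 : x = (y.comp (Ext.mk₀ (colimit.ι (sys.{v'} M ⋙ c) s)) (add_zero q)).comp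
      (Ext.mk₀ e.hom) (add_zero q) := by
    rw [hy, Ext.comp_assoc_of_second_deg_zero, Ext.mk₀_comp_mk₀, e.inv_hom_id, Ext.comp_mk₀_id]
  rw [h1, Ext.comp_assoc_of_second_deg_zero, Ext.mk₀_comp_mk₀]
  exact congrArg (fun a => y.comp (Ext.mk₀ a) (add_zero q)) (he s)

/-- A finite abelian group is a finite sum of cyclic groups. -/
theorem decomp (W : Type) [AddCommGroup W] [Finite W] :
    ∃ (ι : Type) (_ : Fintype ι) (n : ι → ℕ) (j : ∀ i, ZMod (n i) →+ W) (p : ∀ i, W →+ ZMod (n i)),
      (∀ i, Function.Injective (j i)) ∧ (∑ i, (j i).comp (p i) = AddMonoidHom.id W) := by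
  classical
  obtain ⟨ι, hι, n, hn, ⟨e⟩⟩ := AddCommGroup.equiv_directSum_zmod_of_finite' W
  let e' : W ≃+ ∀ i, ZMod (n i) := e.trans (DirectSum.addEquivProd _)
  refine ⟨ι, hι, n, fun i => e'.symm.toAddMonoidHom.comp (AddMonoidHom.single (fun i => ZMod (n i)) i),
    fun i => (Pi.evalAddMonoidHom (fun i => ZMod (n i)) i).comp e'.toAddMonoidHom, ?_, ?_⟩
  · intro i a b hab
    have h1 := congrFun (e'.symm.injective hab) i
    simpa using h1
  · refine AddMonoidHom.ext fun x => ?_
    apply e'.injective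
    rw [AddMonoidHom.finsetSum_apply, map_sum, AddMonoidHom.id_apply]
    have h1 : ∀ i, e' (((e'.symm.toAddMonoidHom.comp (AddMonoidHom.single (fun i => ZMod (n i)) i)).comp
        ((Pi.evalAddMonoidHom (fun i => ZMod (n i)) i).comp e'.toAddMonoidHom)) x) =
        Pi.single i (e' x i) := fun i => e'.apply_symm_apply _
    rw [Finset.sum_congr rfl fun i _ => h1 i]
    exact Finset.univ_sum_single (e' x)

open Groth.Agent.Etbase.ExtColim in
/-- Every class with values in a torsion group is a sum of classes coming from cyclic groups. -/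
theorem exists_sum [c.Additive] {M : Type} [AddCommGroup M] (N : ℕ → Prop) (hN0 : ∀ n, N n → n ≠ 0)
    (hN : ∀ m n, N n → m ∣ n → N m) (hM : ∀ m : M, ∃ n : ℕ, N n ∧ n • m = 0)
    [HasColimitsOfShape (Idx.{v'} M) C] [PreservesColimitsOfShape (Idx.{v'} M) c]
    {A : C} {q : ℕ} (hA : FP.{w} (Idx.{v'} M) q A) (x : Ext A (c.obj (U M)) q) :
    ∃ (ι : Type) (_ : Fintype ι) (n : ι → ℕ) (_ : ∀ i, N (n i)) (f : ∀ i, ZMod (n i) →+ M)
      (y : ∀ i, Ext A (c.obj (U (ZMod (n i)))) q),
      x = ∑ i, (y i).comp (Ext.mk₀ (c.map (up (f i)))) (add_zero q) := by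
  obtain ⟨s, y, hy⟩ := exists_stage c hA x
  have hfin : Finite (V M s) := finite_V (fun m => by
    obtain ⟨n, hn, hm⟩ := hM m
    exact ⟨n, hN0 n hn, hm⟩) s
  obtain ⟨ι, hι, n, j, p, hj, hsum⟩ := decomp (V M s)
  refine ⟨ι, hι, n, ?_, fun i => (V M s).subtype.comp (j i),
    fun i => y.comp (Ext.mk₀ (c.map (up (p i)))) (add_zero q), ?_⟩
  · intro i
    obtain ⟨m, hm, hm1⟩ := hM (j i 1).1
    refine hN _ m hm ?_
    have h1 : m • (j i 1) = 0 := Subtype.ext hm1
    rw [← map_nsmul, ← map_zero (j i)] at h1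
    have h2 := hj i h1
    rw [nsmul_eq_mul, mul_one] at h2
    exact (ZMod.natCast_eq_zero_iff _ _).1 h2
  · have h1 : y = ∑ i, y.comp (Ext.mk₀ (c.map (up (p i)) ≫ c.map (up (j i)))) (add_zero q) := by
      have h2 : ∀ i, c.map (up (p i)) ≫ c.map (up (j i)) = c.map (up ((j i).comp (p i))) := fun i => by
        rw [← c.map_comp, up_comp]
      simp_rw [h2]
      have h3 : ∑ i, c.map (up ((j i).comp (p i))) = 𝟙 _ := by
        rw [← Functor.map_sum, ← up_sum, hsum, up_id, c.map_id]
      rw [← Ext.comp_sum, ← Ext.mk₀_sum, h3, Ext.comp_mk₀_id]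
    rw [hy]
    conv_lhs => rw [h1]
    rw [Ext.sum_comp]
    refine Finset.sum_congr rfl fun i _ => ?_
    rw [up_comp, c.map_comp]
    simp only [← Ext.mk₀_comp_mk₀, Ext.comp_assoc_of_second_deg_zero]

end Groth.Agent.Etdl.H562.FinSub
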