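import Groth.Agent.Etdl.H562.Compare
import Groth.Agent.Etdl.H562.FinSub

/-!
# The abstract assembly

`A`, `B` abelian, `ρ : A ⥤ B`, `Hom(P, -) = Hom(Z, ρ -)`, `cA`, `cB` "constant object" functors with `cA ⋙ ρ ≅ cB`,
`π : P ⟶ G` such that `Ext¹(G, cA(M)) → Ext¹(P, cA(M))` is injective for all `M`, with
`|Ext¹(G, cA(ℤ/n))| ≥ |Ext¹(Z, cB(ℤ/n))|`, the latter finite. Then `Ext¹(G, cA(M)) ≃+ Ext¹(Z, cB(M))` for suitable torsion `M`.
-/

set_option autoImplicit false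

universe w w' r v v' u u'

open CategoryTheory CategoryTheory.Limits CategoryTheory.Abelian

noncomputable section

namespace Groth.Agent.Etdl.H562.Abs

open Groth.Agent.Etcore.ConstFGAbs

variable {A : Type u} [Category.{v} A] [Abelian A] [HasExt.{w} A] [EnoughInjectives A]
variable {B : Type u'} [Category.{v'} B] [Abelian B] [HasExt.{w'} B]
variable {ρ : A ⥤ B} [ρ.PreservesZeroMorphisms] {P : A} {Z : B}
variable (h : ∀ F : A, (P ⟶ F) ≃+ (Z ⟶ ρ.obj F))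
  (hnat : ∀ {F F' : A} (q : P ⟶ F) (φ : F ⟶ F'), h F' (q ≫ φ) = h F q ≫ ρ.map φ)
  (hinj : ∀ I : A, Injective I → Injective (ρ.obj I))
variable {cA : AddCommGrpCat.{r} ⥤ A} {cB : AddCommGrpCat.{r} ⥤ B} (e : cA ⋙ ρ ≅ cB)
  (hgood : ∀ M, Compare.Good ρ (cA.obj M))
variable {G : A} (π : P ⟶ G)

/-- Isomorphism of `Ext` groups induced by an isomorphism of the target. -/
def extIso {X : B} {Y Y' : B} (i : Y ≅ Y') (n : ℕ) : Ext.{w'} X Y n ≃+ Ext.{w'} X Y' n where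
  toFun x := x.comp (Ext.mk₀ i.hom) (add_zero n)
  invFun x := x.comp (Ext.mk₀ i.inv) (add_zero n)
  left_inv x := by
    dsimp only
    rw [Ext.comp_assoc_of_second_deg_zero, Ext.mk₀_comp_mk₀, i.hom_inv_id, Ext.comp_mk₀_id]
  right_inv x := by
    dsimp only
    rw [Ext.comp_assoc_of_second_deg_zero, Ext.mk₀_comp_mk₀, i.inv_hom_id, Ext.comp_mk₀_id]
  map_add' x y := Ext.add_comp _ _ _ _

/-- The isomorphism `Ext¹(P, cA(M)) = Ext¹(Z, cB(M))`. -/
def iso1 (M : AddCommGrpCat.{r}) : Ext.{w} P (cA.obj M) 1 ≃+ Ext.{w'} Z (cB.obj M) 1 :=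
  (Compare.theta h hnat hinj (hgood M)).trans (extIso (e.app M) 1)

theorem iso1_nat {M M' : AddCommGrpCat.{r}} (φ : M ⟶ M') (x : Ext.{w} P (cA.obj M) 1) :
    iso1 h hnat hinj e hgood M' (x.comp (Ext.mk₀ (cA.map φ)) (add_zero 1)) =
      (iso1 h hnat hinj e hgood M x).comp (Ext.mk₀ (cB.map φ)) (add_zero 1) := by
  change (Compare.theta h hnat hinj (hgood M') (x.comp (Ext.mk₀ (cA.map φ)) (add_zero 1))).comp
    (Ext.mk₀ (e.app M').hom) (add_zero 1) =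
    ((Compare.theta h hnat hinj (hgood M) x).comp (Ext.mk₀ (e.app M).hom) (add_zero 1)).comp
      (Ext.mk₀ (cB.map φ)) (add_zero 1)
  rw [Compare.theta_naturality, Ext.comp_assoc_of_second_deg_zero,
    Ext.comp_assoc_of_second_deg_zero, Ext.mk₀_comp_mk₀, Ext.mk₀_comp_mk₀]
  exact congrArg (fun a => (Compare.theta h hnat hinj (hgood M) x).comp (Ext.mk₀ a) (add_zero 1))
    (e.hom.naturality φ)

/-- The map `Ext¹(G, cA(M)) → Ext¹(Z, cB(M))`. -/
def Φ (M : AddCommGrpCat.{r}) : Ext.{w} G (cA.obj M) 1 →+ Ext.{w'} Z (cB.obj M) 1 :=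
  (iso1 h hnat hinj e hgood M).toAddMonoidHom.comp ((Ext.mk₀ π).precomp (cA.obj M) (zero_add 1))

theorem Φ_apply (M : AddCommGrpCat.{r}) (x : Ext.{w} G (cA.obj M) 1) :
    Φ h hnat hinj e hgood π M x =
      iso1 h hnat hinj e hgood M ((Ext.mk₀ π).comp x (zero_add 1)) := rfl

theorem Φ_nat {M M' : AddCommGrpCat.{r}} (φ : M ⟶ M') (x : Ext.{w} G (cA.obj M) 1) :
    Φ h hnat hinj e hgood π M' (x.comp (Ext.mk₀ (cA.map φ)) (add_zero 1)) =
      (Φ h hnat hinj e hgood π M x).comp (Ext.mk₀ (cB.map φ)) (add_zero 1) := by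
  rw [Φ_apply, Φ_apply, ← iso1_nat, Ext.comp_assoc_of_third_deg_zero]

theorem Φ_injective (M : AddCommGrpCat.{r})
    (hπ : Function.Injective ((Ext.mk₀ π).precomp (cA.obj M) (zero_add 1) :
      Ext.{w} G (cA.obj M) 1 → Ext.{w} P (cA.obj M) 1)) :
    Function.Injective (Φ h hnat hinj e hgood π M) :=
  (iso1 h hnat hinj e hgood M).injective.comp hπ

theorem Φ_bijective_of_card (M : AddCommGrpCat.{r})
    (hπ : Function.Injective ((Ext.mk₀ π).precomp (cA.obj M) (zero_add 1) :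
      Ext.{w} G (cA.obj M) 1 → Ext.{w} P (cA.obj M) 1)) (hfin : Finite (Ext.{w'} Z (cB.obj M) 1))
    (hcard : Nat.card (Ext.{w'} Z (cB.obj M) 1) ≤ Nat.card (Ext.{w} G (cA.obj M) 1)) :
    Function.Bijective (Φ h hnat hinj e hgood π M) :=
  (Φ_injective h hnat hinj e hgood π M hπ).bijective_of_nat_card_le hcard

open Groth.Agent.Etbase.ExtColim in
include h hnat hinj e hgood in
/-- **The abstract assembly.** -/
theorem main [cB.Additive]
    (hπ : ∀ (M : Type) [AddCommGroup M],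
      Function.Injective ((Ext.mk₀ π).precomp (cA.obj (U M)) (zero_add 1) :
        Ext.{w} G (cA.obj (U M)) 1 → Ext.{w} P (cA.obj (U M)) 1))
    (N : ℕ → Prop) (hN0 : ∀ n, N n → n ≠ 0)
    (hN : ∀ m n, N n → m ∣ n → N m)
    (hfin : ∀ n, N n → Finite (Ext.{w'} Z (cB.obj (U (ZMod n))) 1))
    (hcard : ∀ n, N n → Nat.card (Ext.{w'} Z (cB.obj (U (ZMod n))) 1) ≤
      Nat.card (Ext.{w} G (cA.obj (U (ZMod n))) 1))
    (M : Type) [AddCommGroup M] (hM : ∀ m : M, ∃ n : ℕ, N n ∧ n • m = 0)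
    [HasColimitsOfShape (Idx.{r} M) B] [PreservesColimitsOfShape (Idx.{r} M) cB]
    (hA : FP.{w'} (Idx.{r} M) 1 Z) :
    Nonempty (Ext.{w} G (cA.obj (U M)) 1 ≃+ Ext.{w'} Z (cB.obj (U M)) 1) := by
  refine ⟨AddEquiv.ofBijective (Φ h hnat hinj e hgood π (U M))
    ⟨Φ_injective h hnat hinj e hgood π (U M) (hπ M), ?_⟩⟩
  intro x
  obtain ⟨ι, hι, n, hn, f, y, rfl⟩ := FinSub.exists_sum cB N hN0 hN hM hA x
  have hb : ∀ i, ∃ z, Φ h hnat hinj e hgood π (U (ZMod (n i))) z = y i := fun i =>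
    (Φ_bijective_of_card h hnat hinj e hgood π _ (hπ _) (hfin _ (hn i)) (hcard _ (hn i))).2 (y i)
  choose z hz using hb
  refine ⟨∑ i, (z i).comp (Ext.mk₀ (cA.map (up (f i)))) (add_zero 1), ?_⟩
  rw [map_sum]
  refine Finset.sum_congr rfl fun i _ => ?_
  rw [Φ_nat, hz]

end Groth.Agent.Etdl.H562.Abs
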