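import Groth.Agent.Etdl.H562.Final
import Groth.Agent.Etdl.H153.ConstSub
import Groth.Agent.Etdl.H494.Defs
import Mathlib.AlgebraicGeometry.Morphisms.FlatMono
import Mathlib.AlgebraicGeometry.PullbackCarrier

/-!
# From the geometric statements to `Gen` and `Rel`
-/

set_option autoImplicit false

universe u

open CategoryTheory CategoryTheory.Limits AlgebraicGeometry Opposite

noncomputable section

namespace Groth.Agent.Etdl.H562.GeoInput

open Groth.Agent.Etrest.BigEtSite Groth.Agent.Etdl.H153.ConstSub FreeSheaf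

section Elt

variable {S : Scheme.{u}} {U : Over S}

/-- The element `Σ [σ a] - Σ [τ b]`. -/
def elt {T : Over S} {m n : ℕ} (σ : Fin m → (T ⟶ U)) (τ : Fin n → (T ⟶ U)) :
    (freePre.{u + 1} U).obj (op T) :=
  ∑ a, gen.{u + 1} (σ a) - ∑ b, gen.{u + 1} (τ b)

theorem exists_elt {T : Over S} (z : (freePre.{u + 1} U).obj (op T)) :
    ∃ (m n : ℕ) (σ : Fin m → (T ⟶ U)) (τ : Fin n → (T ⟶ U)), z = elt σ τ := by
  induction z using freePre_induction with
  | h0 => exact ⟨0, 0, Fin.elim0, Fin.elim0, by simp [elt]⟩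
  | hgen t => exact ⟨1, 0, fun _ => t, Fin.elim0, by simp [elt]⟩
  | hneg t _ => exact ⟨0, 1, Fin.elim0, fun _ => t, by simp [elt]⟩
  | hadd x y hx hy =>
    obtain ⟨m, n, σ, τ, rfl⟩ := hx
    obtain ⟨m', n', σ', τ', rfl⟩ := hy
    refine ⟨m + m', n + n', Fin.append σ σ', Fin.append τ τ', ?_⟩
    simp only [elt, Fin.sum_univ_add, Fin.append_left, Fin.append_right]
    abel

theorem map_elt {T T' : Over S} (g : T' ⟶ T) {m n : ℕ} (σ : Fin m → (T ⟶ U)) (τ : Fin n → (T ⟶ U)) :
    (freePre.{u + 1} U).map g.op (elt σ τ) = elt (fun a => g ≫ σ a) (fun b => g ≫ τ b) := by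
  simp only [elt, map_sub, map_sum, map_gen]

theorem freeDesc_elt (P : (Over S)ᵒᵖ ⥤ AddCommGrpCat.{u + 1}) (α : P.obj (op U)) {T : Over S}
    {m n : ℕ} (σ : Fin m → (T ⟶ U)) (τ : Fin n → (T ⟶ U)) :
    (freeDesc.{u + 1} P α).app (op T) (elt σ τ) =
      ∑ a, P.map (σ a).op α - ∑ b, P.map (τ b).op α := by
  simp only [elt, map_sub, map_sum, freeDesc_gen]

/-- The relation attached to `Σ σ^* α = Σ τ^* α`. -/
def relElt {P : (Over S)ᵒᵖ ⥤ AddCommGrpCat.{u + 1}} {α : P.obj (op U)} {T : Over S}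
    {m n : ℕ} (σ : Fin m → (T ⟶ U)) (τ : Fin n → (T ⟶ U))
    (h : ∑ a, P.map (σ a).op α = ∑ b, P.map (τ b).op α) : (relPre.{u + 1} P α).obj (op T) :=
  ⟨elt σ τ, (freeDesc_elt P α σ τ).trans (sub_eq_zero.2 h)⟩

theorem exists_relElt {P : (Over S)ᵒᵖ ⥤ AddCommGrpCat.{u + 1}} {α : P.obj (op U)} {T : Over S}
    (c : (relPre.{u + 1} P α).obj (op T)) : ∃ (m n : ℕ) (σ : Fin m → (T ⟶ U)) (τ : Fin n → (T ⟶ U))
      (h : ∑ a, P.map (σ a).op α = ∑ b, P.map (τ b).op α), c = relElt σ τ h := by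
  obtain ⟨m, n, σ, τ, h⟩ := exists_elt c.1
  refine ⟨m, n, σ, τ, ?_, Subtype.ext h⟩
  have h1 : (freeDesc.{u + 1} P α).app (op T) c.1 = 0 := c.2
  rw [h, freeDesc_elt, sub_eq_zero] at h1
  exact h1

theorem map_relElt_val {P : (Over S)ᵒᵖ ⥤ AddCommGrpCat.{u + 1}} {α : P.obj (op U)} {T T' : Over S}
    (g : T' ⟶ T) {m n : ℕ} (σ : Fin m → (T ⟶ U)) (τ : Fin n → (T ⟶ U))
    (h : ∑ a, P.map (σ a).op α = ∑ b, P.map (τ b).op α) :
    ((relPre.{u + 1} P α).map g.op (relElt σ τ h)).1 = elt (fun a => g ≫ σ a) (fun b => g ≫ τ b) :=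
  map_elt g σ τ

end Elt

section Pb

variable {S : Scheme.{u}}

/-- Fibre products over `S`, with points. -/
theorem exists_pb {T T' V : Over S} (g : T' ⟶ T) (h : V ⟶ T) (x : T'.left) (y : V.left)
    (hxy : g.left x = h.left y) [Flat g.left] [LocallyOfFinitePresentation g.left] :
    ∃ (W : Over S) (a : W ⟶ T') (b : W ⟶ V) (w : W.left), a ≫ g = b ≫ h ∧ a.left w = x ∧
      b.left w = y ∧ Flat b.left ∧ LocallyOfFinitePresentation b.left := by
  obtain ⟨w, hw1, hw2⟩ := Scheme.Pullback.exists_preimage_pullback x y hxy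
  refine ⟨Over.mk (pullback.fst g.left h.left ≫ T'.hom), Over.homMk (pullback.fst g.left h.left) rfl,
    Over.homMk (pullback.snd g.left h.left) ?_, w, ?_, hw1, hw2, ?_, ?_⟩
  · change pullback.snd g.left h.left ≫ V.hom = pullback.fst g.left h.left ≫ T'.hom
    rw [← Over.w g, ← Over.w h, pullback.condition_assoc]
  · ext
    exact pullback.condition
  · exact inferInstanceAs (Flat (pullback.snd g.left h.left))
  · exact inferInstanceAs (LocallyOfFinitePresentation (pullback.snd g.left h.left))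

end Pb

section Van

variable {S : Scheme.{u}} {M : Type} [AddCommGroup M]

/-- `s` vanishes fppf-locally near the point `u`. -/
def Van {U : Over S} (s : (EtDl.constF S M).obj.obj (op U)) (u : U.left) : Prop :=
  ∃ (T : Over S) (g : T ⟶ U), Flat g.left ∧ LocallyOfFinitePresentation g.left ∧
    u ∈ Set.range g.left ∧ (EtDl.constF S M).obj.map g.op s = 0

theorem range_isOpen {T U : Over S} (g : T ⟶ U) [Flat g.left] [LocallyOfFinitePresentation g.left] :
    IsOpen (Set.range g.left) :=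
  g.left.isOpenMap.isOpen_range

theorem van_isOpen {U : Over S} (s : (EtDl.constF S M).obj.obj (op U)) : IsOpen {u | Van s u} := by
  rw [isOpen_iff_forall_mem_open]
  rintro u ⟨T, g, h1, h2, h3, h4⟩
  exact ⟨Set.range g.left, fun v hv => ⟨T, g, h1, h2, hv, h4⟩, range_isOpen g, h3⟩

/-- If `s` is the constant `m` on `T` and vanishes near a point of the image of `T`, then `m = 0`. -/
theorem eq_zero_of_van {T U V : Over S} (g : T ⟶ U) [Flat g.left] [LocallyOfFinitePresentation g.left]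
    (s : (EtDl.constF S M).obj.obj (op U)) (m : M)
    (hm : (EtDl.constF S M).obj.map g.op s = cst M T m) (h : V ⟶ U)
    (hV : (EtDl.constF S M).obj.map h.op s = 0) (x : T.left) (y : V.left)
    (hxy : g.left x = h.left y) : m = 0 := by
  obtain ⟨W, a, b, w, hab, -, -, -, -⟩ := exists_pb g h x y hxy
  refine cst_eq_zero M w m ?_
  rw [← map_cst M a, ← hm, ← ConcreteCategory.comp_apply, ← Functor.map_comp, ← op_comp, hab,
    op_comp, Functor.map_comp, ConcreteCategory.comp_apply, hV, map_zero]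

theorem van_isClosed {U : Over S} (s : (EtDl.constF S M).obj.obj (op U)) :
    IsOpen {u | ¬ Van s u} := by
  rw [isOpen_iff_forall_mem_open]
  intro u hu
  obtain ⟨T, g, m, h1, h2, h3, h4⟩ := exists_cst M s u
  refine ⟨Set.range g.left, ?_, range_isOpen g, h3⟩
  rintro v ⟨x, hx⟩ ⟨T', g', -, -, ⟨y, hy⟩, h8⟩
  have hm : m = 0 := eq_zero_of_van g s m h4 g' h8 x y (hx.trans hy.symm)
  refine hu ⟨T, g, h1, h2, h3, ?_⟩
  rw [h4, hm, map_zero]

/-- Vanishing near a point from vanishing at a geometric point. -/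
theorem van_of_point {U V : Over S} (s : (EtDl.constF S M).obj.obj (op U)) (h : V ⟶ U)
    (hV : (EtDl.constF S M).obj.map h.op s = 0) (y : V.left) : Van s (h.left y) := by
  obtain ⟨T, g, m, h1, h2, ⟨x, hx⟩, h4⟩ := exists_cst M s (h.left y)
  have hm : m = 0 := eq_zero_of_van g s m h4 h hV x y hx
  exact ⟨T, g, h1, h2, ⟨x, hx⟩, by rw [h4, hm, map_zero]⟩

/-- Vanishing at a one-point scheme from vanishing near the point. -/
theorem eq_zero_of_van_point {U V : Over S} (s : (EtDl.constF S M).obj.obj (op U)) (h : V ⟶ U)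
    (hV : ∀ y : V.left, Van s (h.left y)) : (EtDl.constF S M).obj.map h.op s = 0 := by
  refine sheaf_ext _ _ _ fun y => ?_
  obtain ⟨T, g, h1, h2, ⟨x, hx⟩, h4⟩ := hV y
  obtain ⟨W, a, b, w, hab, -, hb, hb1, hb2⟩ := exists_pb g h x y hx
  refine ⟨W, b, hb1, hb2, ⟨w, hb⟩, ?_⟩
  rw [map_zero, ← ConcreteCategory.comp_apply, ← Functor.map_comp, ← op_comp, ← hab,
    op_comp, Functor.map_comp, ConcreteCategory.comp_apply, h4, map_zero]

/-- Sections vanishing at all geometric points vanish. -/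
theorem eq_zero_of_geometric {T : Over S} (s : (EtDl.constF S M).obj.obj (op T))
    (H : ∀ (Ω : Type u) [Field Ω] [IsAlgClosed Ω] (x : Spec (CommRingCat.of Ω) ⟶ S)
      (g : Over.mk x ⟶ T), (EtDl.constF S M).obj.map g.op s = 0) : s = 0 := by
  refine sheaf_ext _ _ _ fun t => ?_
  let Ω := AlgebraicClosure (T.left.residueField t)
  let ξ : Spec (CommRingCat.of Ω) ⟶ T.left :=
    Spec.map (CommRingCat.ofHom (algebraMap (T.left.residueField t) Ω)) ≫ T.left.fromSpecResidueField t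
  let g : Over.mk (ξ ≫ T.hom) ⟶ T := Over.homMk ξ rfl
  have hξ : g.left (default : Spec (CommRingCat.of Ω)) = t := by
    change ξ _ = t
    rw [Scheme.Hom.comp_apply]
    exact Scheme.fromSpecResidueField_apply _ _
  have h0 : (EtDl.constF S M).obj.map g.op s = 0 := H Ω _ g
  obtain ⟨W, h, h1, h2, h3, h4⟩ := van_of_point s g h0 (default : Spec (CommRingCat.of Ω))
  rw [hξ] at h3
  exact ⟨W, h, h1, h2, h3, h4.trans (map_zero _).symm⟩

end Van

section Main

open Groth.Agent.Etdl.H494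

variable {S P Y X : Scheme.{u}} {pbar : P ⟶ S} {i : Y ⟶ P} {j : X ⟶ P}
variable {J : EtFppf.AbF S} {α : J.obj.obj (op (XS pbar j))}

/-- `Rel` from the pencil. -/
theorem rel_of
    (hD3 : ∀ (T : Over S) (m n : ℕ) (σ : Fin m → (T ⟶ XS pbar j)) (τ : Fin n → (T ⟶ XS pbar j)),
      RelDatum i σ τ → ∑ a, J.obj.map (σ a).op α = ∑ b, J.obj.map (τ b).op α)
    (hD4 : ∀ (Ω : Type u) [Field Ω] [IsAlgClosed Ω] (x : Spec (CommRingCat.of Ω) ⟶ S) (m n : ℕ)
      (σ : Fin m → (Over.mk x ⟶ XS pbar j)) (τ : Fin n → (Over.mk x ⟶ XS pbar j)),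
      ∑ a, J.obj.map (σ a).op α = ∑ b, J.obj.map (τ b).op α → RelDatum i σ τ)
    (hpencil : PencilStmt pbar i j) : Final.Rel (j ≫ pbar) J α := by
  intro M _ δ
  -- vanishing at geometric points
  have key : ∀ (Ω : Type u) [Field Ω] [IsAlgClosed Ω] (x : Spec (CommRingCat.of Ω) ⟶ S)
      (c : (relPre.{u + 1} J.obj α).obj (op (Over.mk x))), δ.app (op (Over.mk x)) c = 0 := by
    intro Ω _ _ x c
    obtain ⟨m, n, σ, τ, h, rfl⟩ := exists_relElt c
    obtain ⟨U, q, ρ, hU, ⟨p₁, hp₁, e₁, he₁⟩, hC⟩ := hpencil Ω x m n σ τ (hD4 Ω x m n σ τ h)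
    have hrel := hD3 U m n ρ (fun b => q ≫ τ b) hU
    let s : (EtDl.constF S M).obj.obj (op U) := δ.app (op U) (relElt ρ (fun b => q ≫ τ b) hrel)
    have hnat : ∀ (p : Over.mk x ⟶ U), (EtDl.constF S M).obj.map p.op s =
        δ.app (op (Over.mk x)) ((relPre.{u + 1} J.obj α).map p.op (relElt ρ (fun b => q ≫ τ b) hrel)) :=
      fun p => (ConcreteCategory.congr_hom (δ.naturality p.op) _).symm
    have hp1 : (relPre.{u + 1} J.obj α).map p₁.op (relElt ρ (fun b => q ≫ τ b) hrel) = relElt σ τ h := by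
      refine Subtype.ext ?_
      rw [map_relElt_val]
      change elt _ _ = elt _ _
      unfold elt
      congr 1
      · rw [← Equiv.sum_comp e₁]
        exact Finset.sum_congr rfl fun a _ => congrArg gen (he₁ a)
      · refine Finset.sum_congr rfl fun b _ => congrArg gen ?_
        change p₁ ≫ q ≫ τ b = τ b
        rw [← Category.assoc, hp₁, Category.id_comp]
    rw [← hp1, ← hnat]
    refine eq_zero_of_van_point s p₁ fun y => ?_
    by_contra hy
    obtain ⟨p, hp, hpC, e, he⟩ := hC {u | ¬ Van s u} ⟨⟨by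
      have : {u | ¬ Van s u}ᶜ = {u | Van s u} := by
        ext u
        simp
      rw [this]
      exact van_isOpen s⟩, van_isClosed s⟩ ⟨_, hy⟩
    have hp2 : (relPre.{u + 1} J.obj α).map p.op (relElt ρ (fun b => q ≫ τ b) hrel) = 0 := by
      refine Subtype.ext ?_
      rw [map_relElt_val]
      change elt _ _ = 0
      unfold elt
      rw [sub_eq_zero, ← Equiv.sum_comp e]
      refine Finset.sum_congr rfl fun a _ => congrArg gen ?_
      change p ≫ ρ a = p ≫ q ≫ τ (e a)
      rw [he, ← Category.assoc, hp, Category.id_comp]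
    have h0 : (EtDl.constF S M).obj.map p.op s = 0 := by
      rw [hnat, hp2, map_zero]
    exact hpC ⟨y, rfl⟩ (van_of_point s p h0 y)
  -- general case
  ext T : 2
  refine AddCommGrpCat.hom_ext (AddMonoidHom.ext fun c => ?_)
  refine eq_zero_of_geometric (T := T.unop) _ fun Ω _ _ x g => ?_
  have h1 := ConcreteCategory.congr_hom (δ.naturality g.op) c
  rw [ConcreteCategory.comp_apply, ConcreteCategory.comp_apply, key] at h1
  exact h1.symm

/-- `Gen` from the statement `GenStmt` for cocycles. -/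
theorem gen_of
    (hcl : ∀ (T : Over S) (ξ : J.obj.obj (op T)) (t : T.left), ∃ (T1 : Over S) (g : T1 ⟶ T),
      Flat g.left ∧ LocallyOfFinitePresentation g.left ∧ t ∈ Set.range g.left ∧
      ∃ c : Cocycle pbar i T1, ∀ (T2 : Over S) (h : T2 ⟶ T1) (m n : ℕ)
        (σ : Fin m → (T2 ⟶ XS pbar j)) (τ : Fin n → (T2 ⟶ XS pbar j)), (c.pull h).Triv σ τ →
        J.obj.map h.op (J.obj.map g.op ξ) =
          ∑ a, J.obj.map (σ a).op α - ∑ b, J.obj.map (τ b).op α)
    (hgen : GenStmt pbar i j) : Final.Gen (j ≫ pbar) J α := by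
  intro V x
  let R : Sieve V :=
    { arrows := fun W g => J.obj.map g.op x ∈
        AddSubgroup.closure (Set.range fun t : W ⟶ Over.mk (j ≫ pbar) => J.obj.map t.op α)
      downward_closed := by
        intro W W' g hg h
        rw [op_comp, Functor.map_comp, ConcreteCategory.comp_apply]
        have h1 : AddSubgroup.closure (Set.range fun t : W ⟶ Over.mk (j ≫ pbar) => J.obj.map t.op α) ≤
            (AddSubgroup.closure (Set.range fun t : W' ⟶ Over.mk (j ≫ pbar) =>
              J.obj.map t.op α)).comap (J.obj.map h.op).hom := by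
          rw [AddSubgroup.closure_le]
          rintro _ ⟨t, rfl⟩
          refine AddSubgroup.subset_closure ⟨h ≫ t, ?_⟩
          change J.obj.map (h ≫ t).op α = J.obj.map h.op (J.obj.map t.op α)
          rw [op_comp, Functor.map_comp]
          rfl
        exact h1 hg }
  refine ⟨R, ?_, fun W g hg => hg⟩
  rw [mem_J_iff]
  intro t
  obtain ⟨T1, g, hg1, hg2, ⟨t1, ht1⟩, c, hc⟩ := hcl V x t
  obtain ⟨T2, h, hh1, hh2, ⟨t2, ht2⟩, m, n, σ, τ, hTriv⟩ := hgen T1 c t1
  refine ⟨T2, h ≫ g, ?_, ?_, ?_, ⟨t2, ?_⟩⟩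
  · change J.obj.map (h ≫ g).op x ∈ _
    rw [op_comp, Functor.map_comp, ConcreteCategory.comp_apply, hc T2 h m n σ τ hTriv]
    exact AddSubgroup.sub_mem _
      (AddSubgroup.sum_mem _ fun a _ => AddSubgroup.subset_closure ⟨σ a, rfl⟩)
      (AddSubgroup.sum_mem _ fun b _ => AddSubgroup.subset_closure ⟨τ b, rfl⟩)
  · exact inferInstanceAs (Flat (h.left ≫ g.left))
  · exact inferInstanceAs (LocallyOfFinitePresentation (h.left ≫ g.left))
  · rw [Over.comp_left, Scheme.Hom.comp_apply, ht2, ht1]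

end Main

end Groth.Agent.Etdl.H562.GeoInput
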