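import Groth.Agent.Etdl.H562.Final2
import Groth.Agent.Etdl.H562.GeoInput
import Mathlib.AlgebraicGeometry.Noetherian
import Mathlib.AlgebraicGeometry.Morphisms.QuasiSeparated
import Groth.Prelude.Def_EtBase

/-!
# Assembly of S3733 from the geometric statements and the Kummer computation
-/

set_option autoImplicit false

universe u

open CategoryTheory CategoryTheory.Limits AlgebraicGeometry Opposite CategoryTheory.Abelian

noncomputable section

namespace Groth.Agent.Etdl.H562.Assemble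

open Groth.Agent.Etdl.H494

/-- Open subschemes of proper schemes over a field are quasi-compact and quasi-separated. -/
theorem qcqs (k : Type u) [Field k] {Xbar X : Scheme.{u}} (pbar : Xbar ⟶ Spec (CommRingCat.of k))
    [IsProper pbar] (j : X ⟶ Xbar) [IsOpenImmersion j] : CompactSpace X ∧ QuasiSeparatedSpace X := by
  have h0 : IsLocallyNoetherian Xbar := LocallyOfFiniteType.isLocallyNoetherian pbar
  have h1 : CompactSpace Xbar := QuasiCompact.compactSpace_of_compactSpace pbar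
  have h2 : IsNoetherian Xbar := { }
  have h3 : IsLocallyNoetherian X := isLocallyNoetherian_of_isOpenImmersion j
  have h4 : TopologicalSpace.NoetherianSpace Xbar := inferInstance
  have h5 : TopologicalSpace.NoetherianSpace X := j.isOpenEmbedding.isInducing.noetherianSpace
  exact ⟨inferInstance, inferInstance⟩

/-- Assembly. -/
theorem main (k : Type u) [Field k] [IsAlgClosed k]
    {Xbar Y X : Scheme.{u}} (pbar : Xbar ⟶ Spec (CommRingCat.of k)) [IsProper pbar]
    (i : Y ⟶ Xbar) (j : X ⟶ Xbar) [IsOpenImmersion j]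
    {J : EtFppf.AbF (Spec (CommRingCat.of k))} {α : J.obj.obj (op (XS pbar j))}
    (hD3 : ∀ (T : Over (Spec (CommRingCat.of k))) (m n : ℕ) (σ : Fin m → (T ⟶ XS pbar j))
      (τ : Fin n → (T ⟶ XS pbar j)),
      RelDatum i σ τ → ∑ a, J.obj.map (σ a).op α = ∑ b, J.obj.map (τ b).op α)
    (hD4 : ∀ (Ω : Type u) [Field Ω] [IsAlgClosed Ω]
      (x : Spec (CommRingCat.of Ω) ⟶ Spec (CommRingCat.of k)) (m n : ℕ)
      (σ : Fin m → (Over.mk x ⟶ XS pbar j)) (τ : Fin n → (Over.mk x ⟶ XS pbar j)),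
      ∑ a, J.obj.map (σ a).op α = ∑ b, J.obj.map (τ b).op α → RelDatum i σ τ)
    (hcl : ∀ (T : Over (Spec (CommRingCat.of k))) (ξ : J.obj.obj (op T)) (t : T.left),
      ∃ (T1 : Over (Spec (CommRingCat.of k))) (g : T1 ⟶ T),
      Flat g.left ∧ LocallyOfFinitePresentation g.left ∧ t ∈ Set.range g.left ∧
      ∃ c : Cocycle pbar i T1, ∀ (T2 : Over (Spec (CommRingCat.of k))) (h : T2 ⟶ T1) (m n : ℕ)
        (σ : Fin m → (T2 ⟶ XS pbar j)) (τ : Fin n → (T2 ⟶ XS pbar j)), (c.pull h).Triv σ τ →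
        J.obj.map h.op (J.obj.map g.op ξ) =
          ∑ a, J.obj.map (σ a).op α - ∑ b, J.obj.map (τ b).op α)
    (hgen : GenStmt pbar i j) (hpencil : PencilStmt pbar i j)
    (hkum : (∀ (R : EtFppf.AbF (Spec (CommRingCat.of k))) (φ : J ⟶ R),
      φ.hom.app (op (XS pbar j)) α = 0 → φ = 0) → Final.Kum k X J)
    (G : Type) [AddCommGroup G] (hG : ∀ g : G, ∃ n : ℕ, (n : k) ≠ 0 ∧ n • g = 0) :
    Nonempty (Abelian.Ext.{u + 1} J (EtDl.constF (Spec (CommRingCat.of k)) G) 1 ≃+
      EtCoh.H X (EtCoh.const X G) 1) := by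
  obtain ⟨hX1, hX2⟩ := qcqs k pbar j
  have hGen : Final.Gen (j ≫ pbar) J α := GeoInput.gen_of hcl hgen
  have hRel : Final.Rel (j ≫ pbar) J α := GeoInput.rel_of hD3 hD4 hpencil
  refine Final.main k (j ≫ pbar) J α hGen hRel (hkum ?_) G hG
  intro R φ hφ
  have hepi : Epi (FreeSheaf.desc.{u + 1} J α) :=
    FreeSheaf.epi_of_gen.{u + 1} (FreeSheaf.desc.{u + 1} J α) α (FreeSheaf.desc_one J α) hGen
  rw [← cancel_epi (FreeSheaf.desc.{u + 1} J α), comp_zero]
  apply FreeSheaf.hom_ext.{u + 1}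
  have h1 : (FreeSheaf.desc.{u + 1} J α ≫ φ).hom.app (op (XS pbar j))
      (FreeSheaf.one.{u + 1} (EtFppf.J (Spec (CommRingCat.of k))) (XS pbar j)) =
      φ.hom.app (op (XS pbar j)) α :=
    congrArg (φ.hom.app (op (XS pbar j))) (FreeSheaf.desc_one J α)
  exact h1.trans hφ

end Groth.Agent.Etdl.H562.Assemble
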