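import Mathlib.Algebra.Homology.DerivedCategory.Ext.ExactSequences
import Mathlib.Algebra.Homology.DerivedCategory.Ext.EnoughInjectives
import Mathlib.CategoryTheory.Preadditive.Injective.Basic
import Mathlib.CategoryTheory.Abelian.Exact

/-!
# Comparison of first extension groups along a functor preserving injectives

`P : A`, `Z : B`, `ρ : A ⥤ B` with `Hom(P, -) ≃+ Hom(Z, ρ -)`, naturally. If `ρ` preserves injectives and the
standard short exact sequence `0 → F → under F → Q → 0` stays exact after `ρ`, then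
`Ext¹(P, F) ≃+ Ext¹(Z, ρ F)`, naturally in `F`.
-/

set_option autoImplicit false

universe w w' v v' u u'

open CategoryTheory CategoryTheory.Limits CategoryTheory.Abelian

noncomputable section

namespace Groth.Agent.Etdl.H562.Compare

/-- Two surjections with the same kernel have isomorphic targets. -/
def equivOfKer {M N N' : Type*} [AddCommGroup M] [AddCommGroup N] [AddCommGroup N']
    (f : M →+ N) (g : M →+ N') (hf : Function.Surjective f) (hg : Function.Surjective g)
    (h : ∀ m, f m = 0 ↔ g m = 0) : N ≃+ N' :=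
  (QuotientAddGroup.quotientKerEquivOfSurjective f hf).symm.trans
    ((QuotientAddGroup.quotientAddEquivOfEq (by ext m; exact h m)).trans
      (QuotientAddGroup.quotientKerEquivOfSurjective g hg))

theorem equivOfKer_apply {M N N' : Type*} [AddCommGroup M] [AddCommGroup N] [AddCommGroup N']
    (f : M →+ N) (g : M →+ N') (hf : Function.Surjective f) (hg : Function.Surjective g)
    (h : ∀ m, f m = 0 ↔ g m = 0) (m : M) : equivOfKer f g hf hg h (f m) = g m := by
  have h1 : (QuotientAddGroup.quotientKerEquivOfSurjective f hf).symm (f m) =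
      (QuotientAddGroup.mk m : M ⧸ f.ker) := by
    rw [AddEquiv.symm_apply_eq]
    rfl
  unfold equivOfKer
  rw [AddEquiv.trans_apply, h1]
  rfl

section Delta

variable {A : Type u} [Category.{v} A] [Abelian A] [HasExt.{w} A]

/-- The connecting map `Hom(P, X₃) → Ext¹(P, X₁)`. -/
def δ (P : A) {S : ShortComplex A} (hS : S.ShortExact) : (P ⟶ S.X₃) →+ Ext.{w} P S.X₁ 1 where
  toFun q := (Ext.mk₀ q).comp hS.extClass (zero_add 1)
  map_zero' := by simp
  map_add' := by intro x y; simp [Ext.mk₀_add]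

variable (P : A) {S : ShortComplex A} (hS : S.ShortExact)

theorem δ_apply (q : P ⟶ S.X₃) : δ P hS q = (Ext.mk₀ q).comp hS.extClass (zero_add 1) := rfl

theorem δ_surjective [Injective S.X₂] : Function.Surjective (δ P hS) := by
  intro e
  obtain ⟨e', he'⟩ := Ext.covariant_sequence_exact₁ P hS e
      (Ext.eq_zero_of_injective _) (rfl : 0 + 1 = 1)
  obtain ⟨q, rfl⟩ := (Ext.mk₀_bijective P S.X₃).2 e'
  exact ⟨q, he'⟩

theorem δ_eq_zero_iff (q : P ⟶ S.X₃) : δ P hS q = 0 ↔ ∃ r : P ⟶ S.X₂, r ≫ S.g = q := by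
  constructor
  · intro h
    obtain ⟨e', he'⟩ := Ext.covariant_sequence_exact₃ P hS (Ext.mk₀ q) (rfl : 0 + 1 = 1) h
    obtain ⟨r, rfl⟩ := (Ext.mk₀_bijective P S.X₂).2 e'
    refine ⟨r, (Ext.mk₀_bijective P S.X₃).1 ?_⟩
    rw [← he', Ext.mk₀_comp_mk₀]
  · rintro ⟨r, rfl⟩
    rw [δ_apply, ← Ext.mk₀_comp_mk₀, Ext.comp_assoc_of_second_deg_zero, hS.comp_extClass,
      Ext.comp_zero]

/-- Naturality of the connecting map in the short exact sequence. -/
theorem δ_naturality {S' : ShortComplex A} (hS' : S'.ShortExact) (φ : S ⟶ S') (q : P ⟶ S.X₃) :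
    (δ P hS q).comp (Ext.mk₀ φ.τ₁) (add_zero 1) = δ P hS' (q ≫ φ.τ₃) := by
  rw [δ_apply, δ_apply, Ext.comp_assoc_of_third_deg_zero,
    ShortComplex.ShortExact.extClass_naturality hS hS' φ, ← Ext.mk₀_comp_mk₀,
    Ext.comp_assoc_of_second_deg_zero]

end Delta

section Under

variable {A : Type u} [Category.{v} A] [Abelian A] [EnoughInjectives A]

/-- The standard short exact sequence `0 → F → under F → Q → 0`. -/
abbrev U (F : A) : ShortComplex A := ShortComplex.mk (Injective.ι F) (cokernel.π (Injective.ι F))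
  (cokernel.condition _)

theorem shortExact_U (F : A) : (U F).ShortExact where
  exact := ShortComplex.exact_cokernel _
  mono_f := by dsimp; infer_instance
  epi_g := by dsimp; infer_instance

instance (F : A) : Injective (U F).X₂ := by dsimp; infer_instance

/-- A map of objects extends to the standard sequences. -/
def mapU {F F' : A} (φ : F ⟶ F') : U F ⟶ U F' :=
  { τ₁ := φ
    τ₂ := Injective.factorThru (φ ≫ Injective.ι F') (Injective.ι F)
    τ₃ := cokernel.map _ _ φ (Injective.factorThru (φ ≫ Injective.ι F') (Injective.ι F))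
      (Injective.comp_factorThru _ _)
    comm₁₂ := (Injective.comp_factorThru _ _).symm
    comm₂₃ := by
      dsimp
      rw [cokernel.π_desc] }

@[simp] theorem mapU_τ₁ {F F' : A} (φ : F ⟶ F') : (mapU φ).τ₁ = φ := rfl

end Under

section Main

variable {A : Type u} [Category.{v} A] [Abelian A] [HasExt.{w} A] [EnoughInjectives A]
variable {B : Type u'} [Category.{v'} B] [Abelian B] [HasExt.{w'} B]
variable (ρ : A ⥤ B) [ρ.PreservesZeroMorphisms] (P : A) (Z : B)
variable (h : ∀ F : A, (P ⟶ F) ≃+ (Z ⟶ ρ.obj F))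
  (hnat : ∀ {F F' : A} (q : P ⟶ F) (φ : F ⟶ F'), h F' (q ≫ φ) = h F q ≫ ρ.map φ)

/-- The property of `F` needed for the comparison. -/
abbrev Good (F : A) : Prop := ((U F).map ρ).ShortExact

section

variable {ρ P Z} (hinj : ∀ I : A, Injective I → Injective (ρ.obj I))

/-- `Ext¹(P, F) ≃+ Ext¹(Z, ρ F)`. -/
def theta {F : A} (hF : Good ρ F) : Ext.{w} P F 1 ≃+ Ext.{w'} Z (ρ.obj F) 1 :=
  haveI : Injective ((U F).map ρ).X₂ := hinj _ (inferInstanceAs (Injective (U F).X₂))
  equivOfKer (δ P (shortExact_U F))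
    ((δ Z (S := (U F).map ρ) hF).comp (h (U F).X₃).toAddMonoidHom)
    (δ_surjective P _) ((δ_surjective Z hF).comp (h (U F).X₃).surjective) (by
      intro q
      rw [δ_eq_zero_iff]
      change _ ↔ δ Z hF (h _ q) = 0
      rw [δ_eq_zero_iff]
      constructor
      · rintro ⟨r, rfl⟩
        exact ⟨h _ r, (hnat r (U F).g).symm⟩
      · rintro ⟨r, hr⟩
        obtain ⟨r, rfl⟩ := (h _).surjective r
        refine ⟨r, (h _).injective ?_⟩
        exact (hnat r (U F).g).trans hr)

theorem theta_δ {F : A} (hF : Good ρ F) (q : P ⟶ (U F).X₃) :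
    theta h hnat hinj hF (δ P (shortExact_U F) q) = δ Z (S := (U F).map ρ) hF (h _ q) :=
  equivOfKer_apply _ _ _ _ _ _

theorem theta_naturality {F F' : A} (hF : Good ρ F) (hF' : Good ρ F') (φ : F ⟶ F')
    (x : Ext.{w} P F 1) :
    theta h hnat hinj hF' (x.comp (Ext.mk₀ φ) (add_zero 1)) =
      (theta h hnat hinj hF x).comp (Ext.mk₀ (ρ.map φ)) (add_zero 1) := by
  obtain ⟨q, rfl⟩ := δ_surjective P (shortExact_U F) x
  have e1 : (δ P (shortExact_U F) q).comp (Ext.mk₀ φ) (add_zero 1) =
      δ P (shortExact_U F') (q ≫ (mapU φ).τ₃) :=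
    δ_naturality P (shortExact_U F) (shortExact_U F') (mapU φ) q
  have e2 : (δ Z (S := (U F).map ρ) hF (h _ q)).comp (Ext.mk₀ (ρ.map φ)) (add_zero 1) =
      δ Z (S := (U F').map ρ) hF' (h _ q ≫ ρ.map (mapU φ).τ₃) :=
    δ_naturality Z hF hF' (ρ.mapShortComplex.map (mapU φ)) (h _ q)
  rw [e1, theta_δ, theta_δ, hnat]
  exact e2.symm

end

end Main

end Groth.Agent.Etdl.H562.Compare
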