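import Mathlib.Algebra.Homology.DerivedCategory.Ext.ExactSequences
import Mathlib.CategoryTheory.Abelian.Exact
import Mathlib.Algebra.Group.Subgroup.Finite
import Mathlib.GroupTheory.Coset.Card

/-!
# Counting first extensions by multiplication by `n`

If `n F = 0`, `C = coker (n : J ⟶ J)`, `D = ker (n : J ⟶ J)`, `Ext²(C, F) = 0` and
`|Ext¹(C, F)| = |Hom(C, F)| < ∞`, then `|Ext¹(J, F)| = |Hom(D, F)|`.
-/

set_option autoImplicit false

universe w v u

open CategoryTheory CategoryTheory.Limits CategoryTheory.Abelian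

noncomputable section

namespace Groth.Agent.Etdl.H562.Counting

theorem card_ker_mul_range {G H : Type*} [AddCommGroup G] [AddCommGroup H] (f : G →+ H) :
    Nat.card f.range * Nat.card f.ker = Nat.card G := by
  rw [AddSubgroup.card_eq_card_quotient_mul_card_addSubgroup f.ker,
    Nat.card_congr (QuotientAddGroup.quotientKerEquivRange f).toEquiv]

theorem card_range_of_injective {G H : Type*} [AddCommGroup G] [AddCommGroup H] (f : G →+ H)
    (hf : Function.Injective f) : Nat.card f.range = Nat.card G :=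
  (Nat.card_congr (AddMonoidHom.ofInjective hf).toEquiv).symm

/-- The counting lemma for two long exact sequences. -/
theorem count {C0 J0 B0 D0 C1 J1 B1 : Type*} [AddCommGroup C0] [AddCommGroup J0] [AddCommGroup B0]
    [AddCommGroup D0] [AddCommGroup C1] [AddCommGroup J1] [AddCommGroup B1]
    (i : B0 →+ J0) (a0 : J0 →+ D0) (δ1 : D0 →+ B1) (p : B1 →+ J1)
    (c0 : C0 →+ J0) (b0 : J0 →+ B0) (δ2 : B0 →+ C1) (c1 : C1 →+ J1) (b1 : J1 →+ B1)
    (hi : Function.Injective i) (hia : i.range = a0.ker) (haδ : a0.range = δ1.ker)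
    (hδp : δ1.range = p.ker)
    (hc : Function.Injective c0) (hcb : c0.range = b0.ker) (hbδ : b0.range = δ2.ker)
    (hδc : δ2.range = c1.ker) (hcb1 : c1.range = b1.ker) (hb1 : Function.Surjective b1)
    (h0 : ∀ x, i (b0 x) = 0) (h1 : ∀ x, p (b1 x) = 0)
    (hC : Nat.card C1 = Nat.card C0) (hfin : Finite C0) : Nat.card J1 = Nat.card D0 := by
  have hb0 : ∀ x, b0 x = 0 := fun x => hi ((h0 x).trans (map_zero i).symm)
  have hp : ∀ x, p x = 0 := fun x => by
    obtain ⟨y, rfl⟩ := hb1 x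
    exact h1 y
  -- `J0 = C0`
  have e1 : Nat.card J0 = Nat.card C0 := by
    rw [← card_range_of_injective c0 hc, hcb]
    have : b0.ker = ⊤ := by
      rw [eq_top_iff]
      intro x _
      exact hb0 x
    rw [this]
    exact (AddSubgroup.card_top).symm
  -- `δ2` injective
  have hδ2 : Function.Injective δ2 := by
    rw [← AddMonoidHom.ker_eq_bot_iff, ← hbδ, eq_bot_iff]
    rintro _ ⟨x, rfl⟩
    exact hb0 x
  have hδ1 : Function.Surjective δ1 := by
    intro x
    have : x ∈ p.ker := hp x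
    rw [← hδp] at this
    exact this
  have hC1 : 0 < Nat.card C1 := by
    rw [hC]
    exact Nat.card_pos
  have hC1f : Finite C1 := Nat.finite_of_card_ne_zero hC1.ne'
  have hB0f : Finite B0 := Finite.of_injective δ2 hδ2
  -- the four counts
  have k1 := card_ker_mul_range c1
  have k2 := card_ker_mul_range b1
  have k3 := card_ker_mul_range δ1
  have k4 := card_ker_mul_range a0
  rw [← hδc, card_range_of_injective δ2 hδ2] at k1
  rw [← hcb1, AddMonoidHom.range_eq_top.2 hb1, AddSubgroup.card_top] at k2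
  rw [← haδ, AddMonoidHom.range_eq_top.2 hδ1, AddSubgroup.card_top] at k3
  rw [← hia, card_range_of_injective i hi] at k4
  have hB : 0 < Nat.card B0 := Nat.card_pos
  apply Nat.eq_of_mul_eq_mul_right hB
  rw [← k2, ← k3, mul_assoc, k1, mul_assoc, k4, e1, hC]

section Ext

variable {A : Type u} [Category.{v} A] [Abelian A] [HasExt.{w} A]

variable {D J B C : A} (F : A) (ιD : D ⟶ J) (π : J ⟶ B) (ι : B ⟶ J) (πC : J ⟶ C)
  (w1 : ιD ≫ π = 0) (w2 : ι ≫ πC = 0)
  (h1 : (ShortComplex.mk ιD π w1).ShortExact) (h2 : (ShortComplex.mk ι πC w2).ShortExact)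

include h1 h2 in
theorem card_ext_one_aux (hn0 : ∀ x : Ext.{w} J F 0, (Ext.mk₀ (π ≫ ι)).comp x (zero_add 0) = 0)
    (hn1 : ∀ x : Ext.{w} J F 1, (Ext.mk₀ (π ≫ ι)).comp x (zero_add 1) = 0)
    (hC2 : ∀ x : Ext.{w} C F 2, x = 0) (hC : Nat.card (Ext.{w} C F 1) = Nat.card (Ext.{w} C F 0))
    (hfin : Finite (Ext.{w} C F 0)) :
    Nat.card (Ext.{w} J F 1) = Nat.card (Ext.{w} D F 0) := by
  have hπ : Epi π := h1.epi_g
  have hπC : Epi πC := h2.epi_g
  refine count (B0 := Ext.{w} B F 0) (J0 := Ext.{w} J F 0) (B1 := Ext.{w} B F 1)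
    (C0 := Ext.{w} C F 0) (C1 := Ext.{w} C F 1)
    ((Ext.mk₀ π).precomp F (zero_add 0)) ((Ext.mk₀ ιD).precomp F (zero_add 0))
    (h1.extClass.precomp F (add_zero 1)) ((Ext.mk₀ π).precomp F (zero_add 1))
    ((Ext.mk₀ πC).precomp F (zero_add 0)) ((Ext.mk₀ ι).precomp F (zero_add 0))
    (h2.extClass.precomp F (add_zero 1)) ((Ext.mk₀ πC).precomp F (zero_add 1))
    ((Ext.mk₀ ι).precomp F (zero_add 1))
    ?_ ?_ ?_ ?_ ?_ ?_ ?_ ?_ ?_ ?_ ?_ ?_ hC hfin
  · exact Ext.precomp_mk₀_injective_of_epi F π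
  · ext x
    constructor
    · rintro ⟨y, rfl⟩
      change (Ext.mk₀ ιD).comp ((Ext.mk₀ π).comp y (zero_add 0)) (zero_add 0) = 0
      rw [Ext.mk₀_comp_mk₀_assoc, w1, Ext.mk₀_zero, Ext.zero_comp]
    · intro hx
      obtain ⟨y, hy⟩ := Ext.contravariant_sequence_exact₂ h1 F x hx
      exact ⟨y, hy⟩
  · ext x
    constructor
    · rintro ⟨y, rfl⟩
      exact h1.extClass_comp_assoc y (h := add_zero 1)
    · intro hx
      obtain ⟨y, hy⟩ := Ext.contravariant_sequence_exact₁ h1 F x (add_zero 1) hx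
      exact ⟨y, hy⟩
  · ext x
    constructor
    · rintro ⟨y, rfl⟩
      exact h1.comp_extClass_assoc y (add_zero 1)
    · intro hx
      obtain ⟨y, hy⟩ := Ext.contravariant_sequence_exact₃ h1 F x hx (add_zero 1)
      exact ⟨y, hy⟩
  · exact Ext.precomp_mk₀_injective_of_epi F πC
  · ext x
    constructor
    · rintro ⟨y, rfl⟩
      change (Ext.mk₀ ι).comp ((Ext.mk₀ πC).comp y (zero_add 0)) (zero_add 0) = 0
      rw [Ext.mk₀_comp_mk₀_assoc, w2, Ext.mk₀_zero, Ext.zero_comp]
    · intro hx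
      obtain ⟨y, hy⟩ := Ext.contravariant_sequence_exact₂ h2 F x hx
      exact ⟨y, hy⟩
  · ext x
    constructor
    · rintro ⟨y, rfl⟩
      exact h2.extClass_comp_assoc y (h := add_zero 1)
    · intro hx
      obtain ⟨y, hy⟩ := Ext.contravariant_sequence_exact₁ h2 F x (add_zero 1) hx
      exact ⟨y, hy⟩
  · ext x
    constructor
    · rintro ⟨y, rfl⟩
      exact h2.comp_extClass_assoc y (add_zero 1)
    · intro hx
      obtain ⟨y, hy⟩ := Ext.contravariant_sequence_exact₃ h2 F x hx (add_zero 1)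
      exact ⟨y, hy⟩
  · ext x
    constructor
    · rintro ⟨y, rfl⟩
      change (Ext.mk₀ ι).comp ((Ext.mk₀ πC).comp y (zero_add 1)) (zero_add 1) = 0
      rw [Ext.mk₀_comp_mk₀_assoc, w2, Ext.mk₀_zero, Ext.zero_comp]
    · intro hx
      obtain ⟨y, hy⟩ := Ext.contravariant_sequence_exact₂ h2 F x hx
      exact ⟨y, hy⟩
  · intro x
    obtain ⟨y, hy⟩ := Ext.contravariant_sequence_exact₁ h2 F x (rfl : 1 + 1 = 2) (hC2 _)
    exact ⟨y, hy⟩
  · intro x
    change (Ext.mk₀ π).comp ((Ext.mk₀ ι).comp x (zero_add 0)) (zero_add 0) = 0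
    rw [Ext.mk₀_comp_mk₀_assoc]
    exact hn0 x
  · intro x
    change (Ext.mk₀ π).comp ((Ext.mk₀ ι).comp x (zero_add 1)) (zero_add 1) = 0
    rw [Ext.mk₀_comp_mk₀_assoc]
    exact hn1 x

end Ext

section Mul

variable {A : Type u} [Category.{v} A] [Abelian A] [HasExt.{w} A]

theorem mk₀_nsmul_comp {X Y : A} (n : ℕ) {i : ℕ} (x : Ext.{w} X Y i) :
    (Ext.mk₀ (n • 𝟙 X)).comp x (zero_add i) = n • x := by
  induction n with
  | zero => simp
  | succ n ih =>
    rw [add_smul, add_smul, one_smul, one_smul, Ext.mk₀_add, Ext.add_comp, ih, Ext.mk₀_id_comp]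

theorem comp_mk₀_nsmul {X Y : A} (n : ℕ) {i : ℕ} (x : Ext.{w} X Y i) :
    x.comp (Ext.mk₀ (n • 𝟙 Y)) (add_zero i) = n • x := by
  induction n with
  | zero => simp
  | succ n ih =>
    rw [add_smul, add_smul, one_smul, one_smul, Ext.mk₀_add, Ext.comp_add, ih, Ext.comp_mk₀_id]

theorem nsmul_eq_zero {X Y : A} (n : ℕ) (hn : n • 𝟙 Y = 0) {i : ℕ} (x : Ext.{w} X Y i) :
    n • x = 0 := by
  rw [← comp_mk₀_nsmul, hn, Ext.mk₀_zero, Ext.comp_zero]

/-- The main counting result. -/
theorem card_ext_one (J F : A) (n : ℕ) (hn : n • 𝟙 F = 0)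
    (hfin : Finite (Ext.{w} (cokernel (n • 𝟙 J)) F 0))
    (hC2 : ∀ x : Ext.{w} (cokernel (n • 𝟙 J)) F 2, x = 0)
    (hC : Nat.card (Ext.{w} (cokernel (n • 𝟙 J)) F 1) =
      Nat.card (Ext.{w} (cokernel (n • 𝟙 J)) F 0)) :
    Nat.card (Ext.{w} J F 1) = Nat.card (Ext.{w} (kernel (n • 𝟙 J)) F 0) := by
  set f : J ⟶ J := n • 𝟙 J with hf
  have e : factorThruImage f ≫ Limits.image.ι f = f := image.fac f
  refine card_ext_one_aux F (kernel.ι f) (factorThruImage f) (Limits.image.ι f) (cokernel.π f) ?_ ?_ ?_ ?_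
    ?_ ?_ hC2 hC hfin
  · rw [← cancel_mono (Limits.image.ι f), Category.assoc, e, kernel.condition, zero_comp]
  · rw [← cancel_epi (factorThruImage f), ← Category.assoc, e, cokernel.condition, comp_zero]
  · have hex : (ShortComplex.mk (kernel.ι f) (factorThruImage f) (by
      rw [← cancel_mono (Limits.image.ι f), Category.assoc, e, kernel.condition, zero_comp])).Exact := by
      have hk : (ShortComplex.mk (kernel.ι f) f (kernel.condition f)).Exact :=
        ShortComplex.exact_kernel f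
      let φ : ShortComplex.mk (kernel.ι f) (factorThruImage f) (by
        rw [← cancel_mono (Limits.image.ι f), Category.assoc, e, kernel.condition, zero_comp]) ⟶
        ShortComplex.mk (kernel.ι f) f (kernel.condition f) :=
        { τ₁ := 𝟙 _, τ₂ := 𝟙 _, τ₃ := Limits.image.ι f, comm₁₂ := by simp, comm₂₃ := by simp [e] }
      have : Epi φ.τ₁ := by dsimp [φ]; infer_instance
      have : IsIso φ.τ₂ := by dsimp [φ]; infer_instance
      have : Mono φ.τ₃ := by dsimp [φ]; infer_instance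
      exact (ShortComplex.exact_iff_of_epi_of_isIso_of_mono φ).2 hk
    exact { exact := hex }
  · have hex : (ShortComplex.mk (Limits.image.ι f) (cokernel.π f) (by
      rw [← cancel_epi (factorThruImage f), ← Category.assoc, e, cokernel.condition, comp_zero])).Exact := by
      have hk : (ShortComplex.mk f (cokernel.π f) (cokernel.condition f)).Exact :=
        ShortComplex.exact_cokernel f
      let φ : ShortComplex.mk f (cokernel.π f) (cokernel.condition f) ⟶
        ShortComplex.mk (Limits.image.ι f) (cokernel.π f) (by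
        rw [← cancel_epi (factorThruImage f), ← Category.assoc, e, cokernel.condition, comp_zero]) :=
        { τ₁ := factorThruImage f, τ₂ := 𝟙 _, τ₃ := 𝟙 _, comm₁₂ := by simp [e], comm₂₃ := by simp }
      have : Epi φ.τ₁ := by dsimp [φ]; infer_instance
      have : IsIso φ.τ₂ := by dsimp [φ]; infer_instance
      have : Mono φ.τ₃ := by dsimp [φ]; infer_instance
      exact (ShortComplex.exact_iff_of_epi_of_isIso_of_mono φ).1 hk
    exact { exact := hex }
  · intro x
    rw [e, hf, mk₀_nsmul_comp]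
    exact nsmul_eq_zero n hn x
  · intro x
    rw [e, hf, mk₀_nsmul_comp]
    exact nsmul_eq_zero n hn x

/-- Isomorphic sources have the same `Ext`. -/
def extIsoLeft {X X' : A} (e : X ≅ X') (Y : A) (i : ℕ) : Ext.{w} X Y i ≃+ Ext.{w} X' Y i where
  toFun x := (Ext.mk₀ e.inv).comp x (zero_add i)
  invFun x := (Ext.mk₀ e.hom).comp x (zero_add i)
  left_inv x := by
    dsimp only
    rw [Ext.mk₀_comp_mk₀_assoc, e.hom_inv_id, Ext.mk₀_id_comp]
  right_inv x := by
    dsimp only
    rw [Ext.mk₀_comp_mk₀_assoc, e.inv_hom_id, Ext.mk₀_id_comp]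
  map_add' x y := Ext.comp_add _ _ _ _

/-- The counting result up to isomorphism. -/
theorem card_ext_one_iso (J F : A) (n : ℕ) (hn : n • 𝟙 F = 0) {C D : A}
    (eC : cokernel (n • 𝟙 J) ≅ C) (eD : kernel (n • 𝟙 J) ≅ D)
    (hfin : Finite (Ext.{w} C F 0)) (hC2 : ∀ x : Ext.{w} C F 2, x = 0)
    (hC : Nat.card (Ext.{w} C F 1) = Nat.card (Ext.{w} C F 0)) :
    Nat.card (Ext.{w} J F 1) = Nat.card (Ext.{w} D F 0) := by
  rw [← Nat.card_congr (extIsoLeft eD F 0).toEquiv]
  refine card_ext_one J F n hn (Finite.of_equiv _ (extIsoLeft eC F 0).toEquiv.symm) (fun x => ?_) ?_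
  · apply (extIsoLeft eC F 2).injective
    rw [map_zero]
    exact hC2 _
  · rw [Nat.card_congr (extIsoLeft eC F 1).toEquiv, Nat.card_congr (extIsoLeft eC F 0).toEquiv]
    exact hC

end Mul

end Groth.Agent.Etdl.H562.Counting
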