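import Groth.Agent.Etdl.H562.ProjZ
import Groth.Agent.Etdl.H562.Counting
import Mathlib.GroupTheory.FiniteAbelian.Basic
import Mathlib.Algebra.Category.Grp.EpiMono
import Mathlib.Algebra.Homology.ShortComplex.Ab
import Mathlib.CategoryTheory.Limits.Preserves.Finite

/-!
# Extensions between constant sheaves on the big fppf site of `Spec k`, `k` algebraically closed
-/

set_option autoImplicit false

universe w v u

open CategoryTheory CategoryTheory.Limits AlgebraicGeometry Opposite CategoryTheory.Abelian

noncomputable section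

namespace Groth.Agent.Etdl.H562.ConstExt

open Counting ProjZ

section Abstract

variable {A : Type u} [Category.{v} A] [Abelian A] [HasExt.{w} A]

/-- If `0 → K → K → C → 0` is exact and `K` is projective. -/
theorem two_term {K C : A} (F : A) (f : K ⟶ K) (g : K ⟶ C) (h : f ≫ g = 0)
    (hS : (ShortComplex.mk f g h).ShortExact) [Projective K] (hfin : Finite (Ext.{w} K F 0)) :
    Finite (Ext.{w} C F 0) ∧ Nat.card (Ext.{w} C F 1) = Nat.card (Ext.{w} C F 0) ∧
      ∀ x : Ext.{w} C F 2, x = 0 := by
  have hg : Epi g := hS.epi_g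
  have hinj : Function.Injective ((Ext.mk₀ g).precomp F (zero_add 0)) :=
    Ext.precomp_mk₀_injective_of_epi F g
  have hC : Finite (Ext.{w} C F 0) := Finite.of_injective _ hinj
  refine ⟨hC, ?_, ?_⟩
  · let a : Ext.{w} K F 0 →+ Ext.{w} K F 0 := (Ext.mk₀ f).precomp F (zero_add 0)
    let c : Ext.{w} C F 0 →+ Ext.{w} K F 0 := (Ext.mk₀ g).precomp F (zero_add 0)
    let d : Ext.{w} K F 0 →+ Ext.{w} C F 1 := hS.extClass.precomp F (add_zero 1)
    have h1 : c.range = a.ker := by
      ext x
      constructor
      · rintro ⟨y, rfl⟩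
        change (Ext.mk₀ f).comp ((Ext.mk₀ g).comp y (zero_add 0)) (zero_add 0) = 0
        rw [Ext.mk₀_comp_mk₀_assoc, h, Ext.mk₀_zero, Ext.zero_comp]
      · intro hx
        obtain ⟨y, hy⟩ := Ext.contravariant_sequence_exact₂ hS F x hx
        exact ⟨y, hy⟩
    have h2 : a.range = d.ker := by
      ext x
      constructor
      · rintro ⟨y, rfl⟩
        exact hS.extClass_comp_assoc y (h := add_zero 1)
      · intro hx
        obtain ⟨y, hy⟩ := Ext.contravariant_sequence_exact₁ hS F x (add_zero 1) hx
        exact ⟨y, hy⟩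
    have h3 : Function.Surjective d := by
      intro x
      obtain ⟨y, hy⟩ := Ext.contravariant_sequence_exact₃ hS F x (Ext.eq_zero_of_projective _)
        (add_zero 1)
      exact ⟨y, hy⟩
    have k1 := card_ker_mul_range a
    have k2 := card_ker_mul_range d
    rw [← h1, card_range_of_injective c hinj] at k1
    rw [← h2, AddMonoidHom.range_eq_top.2 h3, AddSubgroup.card_top] at k2
    have hpos : 0 < Nat.card a.range := Nat.card_pos
    apply Nat.eq_of_mul_eq_mul_right hpos
    rw [k2, mul_comm, k1]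
  · intro x
    obtain ⟨y, hy⟩ := Ext.contravariant_sequence_exact₃ hS F x (Ext.eq_zero_of_projective _)
      (rfl : 1 + 1 = 2)
    rw [← hy, Ext.eq_zero_of_projective y, Ext.comp_zero]

end Abstract

section Const

variable (X : Scheme.{u})

/-- The constant sheaf functor on the big fppf site. -/
abbrev cF : AddCommGrpCat.{u + 1} ⥤ EtFppf.AbF X :=
  constantSheaf (EtFppf.J X) AddCommGrpCat.{u + 1}

instance preservesFiniteLimits_cF : PreservesFiniteLimits (cF X) := by
  unfold cF
  delta constantSheaf
  infer_instance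

/-- The adjunction. -/
def cAdj : cF X ⊣ (sheafSections (EtFppf.J X) AddCommGrpCat.{u + 1}).obj (op (Over.mk (𝟙 X))) :=
  constantSheafAdj (EtFppf.J X) AddCommGrpCat.{u + 1} Over.mkIdTerminal

instance isLeftAdjoint_cF : (cF X).IsLeftAdjoint := (cAdj X).isLeftAdjoint

instance preservesFiniteColimits_cF : PreservesFiniteColimits (cF X) := inferInstance

end Const

section Field

variable (k : Type u) [Field k] [IsAlgClosed k]

instance preservesEpi_sections : ((sheafSections (EtFppf.J (Spec (CommRingCat.of k)))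
    AddCommGrpCat.{u + 1}).obj (op (Over.mk (𝟙 (Spec (CommRingCat.of k)))))).PreservesEpimorphisms where
  preserves {F G} φ hφ := by
    rw [AddCommGrpCat.epi_iff_surjective]
    exact surjective_of_epi φ

/-- Constant sheaves of projective groups are projective. -/
instance projective_cF (M : AddCommGrpCat.{u + 1}) [Projective M] :
    Projective ((cF (Spec (CommRingCat.of k))).obj M) :=
  (cAdj (Spec (CommRingCat.of k))).map_projective M inferInstance

/-- Free abelian groups are projective. -/
theorem projective_of_basis (ι : Type) [Finite ι] :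
    Projective (AddCommGrpCat.of (ULift.{u + 1} (ι → ℤ))) where
  factors {E Y} f e he := by
    rw [AddCommGrpCat.epi_iff_surjective] at he
    have : Fintype ι := Fintype.ofFinite ι
    have h1 : Module.Projective ℤ (ι → ℤ) := inferInstance
    let fl : (ι → ℤ) →ₗ[ℤ] Y := (f.hom.comp AddEquiv.ulift.symm.toAddMonoidHom).toIntLinearMap
    obtain ⟨g, hg⟩ := Module.projective_lifting_property (e.hom.toIntLinearMap) fl he
    refine ⟨AddCommGrpCat.ofHom (g.toAddMonoidHom.comp AddEquiv.ulift.toAddMonoidHom), ?_⟩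
    refine AddCommGrpCat.hom_ext (AddMonoidHom.ext fun x => ?_)
    exact congrArg (fun φ => φ x.down) hg

/-- A finite abelian group has a presentation by a square matrix. -/
theorem exists_resolution (M : Type) [AddCommGroup M] [Finite M] :
    ∃ (ι : Type) (_ : Finite ι) (f : (ι → ℤ) →+ (ι → ℤ)) (g : (ι → ℤ) →+ M),
      Function.Injective f ∧ Function.Surjective g ∧ ∀ x, g x = 0 ↔ ∃ y, f y = x := by
  classical
  obtain ⟨ι, hι, n, hn, ⟨e⟩⟩ := AddCommGroup.equiv_directSum_zmod_of_finite' M
  let e' : M ≃+ ∀ i, ZMod (n i) := e.trans (DirectSum.addEquivProd _)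
  let r : (ι → ℤ) →+ ∀ i, ZMod (n i) :=
    { toFun := fun x i => ((x i : ℤ) : ZMod (n i))
      map_zero' := by ext i; simp
      map_add' := by intro x y; ext i; simp }
  let f : (ι → ℤ) →+ (ι → ℤ) :=
    { toFun := fun x i => (n i : ℤ) * x i
      map_zero' := by ext i; simp
      map_add' := by intro x y; ext i; simp [mul_add] }
  refine ⟨ι, inferInstance, f, e'.symm.toAddMonoidHom.comp r, ?_, ?_, ?_⟩
  · intro x y hxy
    ext i
    have h1 : (n i : ℤ) * x i = (n i : ℤ) * y i := congrFun hxy i
    exact mul_left_cancel₀ (by have := hn i; positivity) h1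
  · intro m
    refine ⟨fun i => ((e' m i).cast : ℤ), ?_⟩
    change e'.symm (r _) = m
    rw [AddEquiv.symm_apply_eq]
    ext i
    exact ZMod.intCast_zmod_cast (e' m i)
  · intro x
    have h1 : (e'.symm.toAddMonoidHom.comp r) x = 0 ↔ r x = 0 := by
      change e'.symm (r x) = 0 ↔ _
      exact (map_eq_zero_iff e'.symm e'.symm.injective)
    rw [h1]
    constructor
    · intro h
      have h2 : ∀ i, ∃ y : ℤ, x i = (n i : ℤ) * y := fun i =>
        (ZMod.intCast_zmod_eq_zero_iff_dvd (x i) (n i)).1 (congrFun h i)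
      choose y hy using h2
      exact ⟨y, by ext i; exact (hy i).symm⟩
    · rintro ⟨y, rfl⟩
      ext i
      exact (ZMod.intCast_zmod_eq_zero_iff_dvd _ (n i)).2 ⟨y i, rfl⟩

omit [IsAlgClosed k] in
/-- `Hom(c(P), F)` in terms of the global sections. -/
theorem finite_hom_cF (ι : Type) [Finite ι] (F : EtFppf.AbF (Spec (CommRingCat.of k)))
    (hF : Finite (F.obj.obj (op (Over.mk (𝟙 (Spec (CommRingCat.of k))))))) :
    Finite ((cF (Spec (CommRingCat.of k))).obj (AddCommGrpCat.of (ULift.{u + 1} (ι → ℤ))) ⟶ F) := by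
  classical
  have : Fintype ι := Fintype.ofFinite ι
  let e := (cAdj (Spec (CommRingCat.of k))).homEquiv (AddCommGrpCat.of (ULift.{u + 1} (ι → ℤ))) F
  let r : (AddCommGrpCat.of (ULift.{u + 1} (ι → ℤ)) ⟶
      ((sheafSections (EtFppf.J (Spec (CommRingCat.of k))) AddCommGrpCat.{u + 1}).obj
        (op (Over.mk (𝟙 (Spec (CommRingCat.of k)))))).obj F) →
      (ι → F.obj.obj (op (Over.mk (𝟙 (Spec (CommRingCat.of k)))))) :=
    fun φ i => φ (ULift.up (Pi.single i 1))
  have hr : Function.Injective r := by
    intro φ ψ h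
    refine AddCommGrpCat.hom_ext ?_
    have h1 : φ.hom.comp AddEquiv.ulift.symm.toAddMonoidHom =
        ψ.hom.comp AddEquiv.ulift.symm.toAddMonoidHom := by
      refine AddMonoidHom.functions_ext' _ _ _ fun i => ?_
      ext
      exact congrFun h i
    refine AddMonoidHom.ext fun x => ?_
    exact congrArg (fun χ => χ x.down) h1
  exact Finite.of_injective _ (hr.comp e.injective)

/-- **Extensions of a finite constant sheaf.** -/
theorem constExt (M : Type) [AddCommGroup M] [Finite M]
    (F : EtFppf.AbF (Spec (CommRingCat.of k)))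
    (hF : Finite (F.obj.obj (op (Over.mk (𝟙 (Spec (CommRingCat.of k))))))) :
    Finite (Ext.{u + 1} (EtDl.constF (Spec (CommRingCat.of k)) M) F 0) ∧
      Nat.card (Ext.{u + 1} (EtDl.constF (Spec (CommRingCat.of k)) M) F 1) =
        Nat.card (Ext.{u + 1} (EtDl.constF (Spec (CommRingCat.of k)) M) F 0) ∧
      ∀ x : Ext.{u + 1} (EtDl.constF (Spec (CommRingCat.of k)) M) F 2, x = 0 := by
  obtain ⟨ι, hι, f, g, hf, hg, hfg⟩ := exists_resolution M
  let K : AddCommGrpCat.{u + 1} := AddCommGrpCat.of (ULift.{u + 1} (ι → ℤ))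
  let C : AddCommGrpCat.{u + 1} := AddCommGrpCat.of (ULift.{u + 1} M)
  let f' : K ⟶ K := AddCommGrpCat.ofHom
    (AddEquiv.ulift.symm.toAddMonoidHom.comp (f.comp AddEquiv.ulift.toAddMonoidHom))
  let g' : K ⟶ C := AddCommGrpCat.ofHom
    (AddEquiv.ulift.symm.toAddMonoidHom.comp (g.comp AddEquiv.ulift.toAddMonoidHom))
  have hw : f' ≫ g' = 0 := by
    refine AddCommGrpCat.hom_ext (AddMonoidHom.ext fun x => ?_)
    exact congrArg ULift.up ((hfg (f x.down)).2 ⟨_, rfl⟩)
  have hS : (ShortComplex.mk f' g' hw).ShortExact :=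
    { exact := by
        rw [ShortComplex.ab_exact_iff]
        rintro ⟨x⟩ hx
        obtain ⟨y, rfl⟩ := (hfg x).1 (congrArg ULift.down hx)
        exact ⟨ULift.up y, rfl⟩
      mono_f := by
        rw [AddCommGrpCat.mono_iff_injective]
        rintro ⟨x⟩ ⟨y⟩ hxy
        exact congrArg ULift.up (hf (congrArg ULift.down hxy))
      epi_g := by
        rw [AddCommGrpCat.epi_iff_surjective]
        rintro ⟨x⟩
        obtain ⟨y, rfl⟩ := hg x
        exact ⟨ULift.up y, rfl⟩ }
  have hS' := hS.map_of_exact (cF (Spec (CommRingCat.of k)))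
  have hK : Projective K := projective_of_basis ι
  have hK' : Projective ((cF (Spec (CommRingCat.of k))).obj K) := projective_cF k K
  have hfin : Finite (Ext.{u + 1} ((cF (Spec (CommRingCat.of k))).obj K) F 0) := by
    have := finite_hom_cF k ι F hF
    exact Finite.of_equiv _ (Ext.homEquiv₀ (X := (cF (Spec (CommRingCat.of k))).obj K) (Y := F)).symm
  exact two_term F _ _ _ hS' hfin

end Field

end Groth.Agent.Etdl.H562.ConstExt
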