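import Groth.Agent.Etdl.H562.ConstExt

/-!
# Homomorphisms between constant sheaves on the big fppf site of `Spec k`, `k` algebraically closed
-/

set_option autoImplicit false

universe u

open CategoryTheory CategoryTheory.Limits AlgebraicGeometry Opposite CategoryTheory.Abelian

noncomputable section

namespace Groth.Agent.Etdl.H562.ConstHom

open ProjZ ConstExt

variable (k : Type u) [Field k] [IsAlgClosed k]

/-- The final object. -/
abbrev T : Over (Spec (CommRingCat.of k)) := Over.mk (𝟙 (Spec (CommRingCat.of k)))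

/-- Sheafification does not change the global sections. -/
theorem bijective_toSheafify_top (P : (Over (Spec (CommRingCat.of k)))ᵒᵖ ⥤ AddCommGrpCat.{u + 1}) :
    Function.Bijective ((toSheafify (EtFppf.J (Spec (CommRingCat.of k))) P).app (op (T k))) := by
  constructor
  · intro x y h
    have h1 := Presheaf.equalizerSieve_mem (EtFppf.J (Spec (CommRingCat.of k)))
      (toSheafify (EtFppf.J (Spec (CommRingCat.of k))) P) x y h
    have h2 := cover_eq_top k _ h1
    have h3 : (Presheaf.equalizerSieve x y) (𝟙 _) := by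
      rw [h2]
      exact Sieve.top_apply _
    rw [Presheaf.equalizerSieve_apply, op_id, P.map_id] at h3
    exact h3
  · intro s
    have h1 := Presheaf.imageSieve_mem (EtFppf.J (Spec (CommRingCat.of k)))
      (toSheafify (EtFppf.J (Spec (CommRingCat.of k))) P) s
    have h2 := cover_eq_top k _ h1
    have h3 : (Presheaf.imageSieve (toSheafify (EtFppf.J (Spec (CommRingCat.of k))) P) s) (𝟙 _) := by
      rw [h2]
      exact Sieve.top_apply _
    obtain ⟨t, ht⟩ := h3
    refine ⟨t, ht.trans ?_⟩
    rw [op_id, ((presheafToSheaf (EtFppf.J (Spec (CommRingCat.of k)))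
      AddCommGrpCat.{u + 1}).obj P).obj.map_id]
    rfl

instance isIso_unit_app (M : AddCommGrpCat.{u + 1}) :
    IsIso ((cAdj (Spec (CommRingCat.of k))).unit.app M) := by
  rw [ConcreteCategory.isIso_iff_bijective]
  have h : (cAdj (Spec (CommRingCat.of k))).unit.app M =
      (toSheafify (EtFppf.J (Spec (CommRingCat.of k)))
        ((Functor.const (Over (Spec (CommRingCat.of k)))ᵒᵖ).obj M)).app (op (T k)) := by
    unfold cAdj constantSheafAdj
    rw [Adjunction.comp_unit_app]
    erw [constantPresheafAdj_unit_app]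
    exact Category.id_comp _
  rw [h]
  exact bijective_toSheafify_top k _

instance isIso_unit : IsIso (cAdj (Spec (CommRingCat.of k))).unit :=
  NatIso.isIso_of_isIso_app _

/-- The constant sheaf functor is fully faithful. -/
def cFFullyFaithful : (cF (Spec (CommRingCat.of k))).FullyFaithful :=
  (cAdj (Spec (CommRingCat.of k))).fullyFaithfulLOfIsIsoUnit

/-- Homomorphisms of lifted groups. -/
def ulHom (M G : Type) [AddCommGroup M] [AddCommGroup G] : (M →+ G) ≃
    (AddCommGrpCat.of (ULift.{u + 1} M) ⟶ AddCommGrpCat.of (ULift.{u + 1} G)) where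
  toFun φ := AddCommGrpCat.ofHom
    (AddEquiv.ulift.symm.toAddMonoidHom.comp (φ.comp AddEquiv.ulift.toAddMonoidHom))
  invFun φ := AddEquiv.ulift.toAddMonoidHom.comp (φ.hom.comp AddEquiv.ulift.symm.toAddMonoidHom)
  left_inv _ := rfl
  right_inv _ := rfl

/-- Homomorphisms of constant sheaves. -/
def homConst (M G : Type) [AddCommGroup M] [AddCommGroup G] :
    (EtDl.constF (Spec (CommRingCat.of k)) M ⟶ EtDl.constF (Spec (CommRingCat.of k)) G) ≃
      (M →+ G) :=
  ((ulHom M G).trans (cFFullyFaithful k).homEquiv).symm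

/-- `(constF G)(Spec k) = G`. -/
def sectionsConst (G : Type) [AddCommGroup G] :
    (EtDl.constF (Spec (CommRingCat.of k)) G).obj.obj (op (T k)) ≃+ G :=
  ((asIso ((cAdj (Spec (CommRingCat.of k))).unit.app
    (AddCommGrpCat.of (ULift.{u + 1} G)))).addCommGroupIsoToAddEquiv.symm).trans AddEquiv.ulift

instance finite_sectionsConst (G : Type) [AddCommGroup G] [Finite G] :
    Finite ((EtDl.constF (Spec (CommRingCat.of k)) G).obj.obj (op (T k))) :=
  Finite.of_equiv _ (sectionsConst k G).toEquiv.symm

theorem card_ext_zero (M G : Type) [AddCommGroup M] [AddCommGroup G] :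
    Nat.card (Ext.{u + 1} (EtDl.constF (Spec (CommRingCat.of k)) M)
      (EtDl.constF (Spec (CommRingCat.of k)) G) 0) = Nat.card (M →+ G) :=
  Nat.card_congr (Ext.homEquiv₀.trans (homConst k M G))

end Groth.Agent.Etdl.H562.ConstHom
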