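import Groth.Agent.Etdl.H562.FreeSheaf
import Mathlib.Algebra.Homology.DerivedCategory.Ext.ExactSequences
import Mathlib.CategoryTheory.Abelian.Exact

/-!
# The sheaf of relations

For `α ∈ F(U)`, the presheaf of relations `relPre α : V ↦ {c ∈ ℤ[Hom(V, U)] | Σ c(t) t^* α = 0}`, and the kernel of the
morphism `ZS J U ⟶ F` attached to `α`.
-/

set_option autoImplicit false

universe w v u w'

open CategoryTheory CategoryTheory.Limits Opposite CategoryTheory.Abelian

noncomputable section

namespace Groth.Agent.Etdl.H562.FreeSheaf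

variable {C : Type u} [Category.{v} C]

/-- The presheaf of relations between the pull backs of `α`. -/
def relPre {U : C} (P : Cᵒᵖ ⥤ AddCommGrpCat.{max w v}) (α : P.obj (op U)) :
    Cᵒᵖ ⥤ AddCommGrpCat.{max w v} where
  obj V := AddCommGrpCat.of ((freeDesc P α).app V).hom.ker
  map {V W} g := AddCommGrpCat.ofHom
    ((((freePre.{w} U).map g).hom.comp ((freeDesc P α).app V).hom.ker.subtype).codRestrict _
      (fun x => by
        have h1 := ConcreteCategory.congr_hom ((freeDesc P α).naturality g) x.1
        rw [ConcreteCategory.comp_apply, ConcreteCategory.comp_apply] at h1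
        have h2 : (freeDesc P α).app V x.1 = 0 := x.2
        rw [h2, map_zero] at h1
        exact h1))
  map_id V := by
    refine AddCommGrpCat.hom_ext (AddMonoidHom.ext fun x => Subtype.ext ?_)
    exact ConcreteCategory.congr_hom ((freePre.{w} U).map_id V) x.1
  map_comp g h := by
    refine AddCommGrpCat.hom_ext (AddMonoidHom.ext fun x => Subtype.ext ?_)
    exact ConcreteCategory.congr_hom ((freePre.{w} U).map_comp g h) x.1

/-- The inclusion. -/
def relι {U : C} (P : Cᵒᵖ ⥤ AddCommGrpCat.{max w v}) (α : P.obj (op U)) :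
    relPre.{w} P α ⟶ freePre.{w} U where
  app V := AddCommGrpCat.ofHom ((freeDesc P α).app V).hom.ker.subtype
  naturality _ _ _ := rfl

theorem relι_desc {U : C} (P : Cᵒᵖ ⥤ AddCommGrpCat.{max w v}) (α : P.obj (op U)) :
    relι P α ≫ freeDesc P α = 0 := by
  ext V : 2
  refine AddCommGrpCat.hom_ext (AddMonoidHom.ext fun x => ?_)
  exact x.2

variable {J : GrothendieckTopology C} [HasSheafify J AddCommGrpCat.{max w v}]

theorem map_relι_desc {U : C} (F : Sheaf J AddCommGrpCat.{max w v}) (α : F.obj.obj (op U)) :
    (presheafToSheaf J AddCommGrpCat.{max w v}).map (relι F.obj α) ≫ desc F α = 0 := by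
  apply ((sheafificationAdjunction J AddCommGrpCat.{max w v}).homEquiv _ _).injective
  have e1 : (sheafificationAdjunction J AddCommGrpCat.{max w v}).homEquiv
      (relPre.{w} F.obj α) F ((presheafToSheaf J AddCommGrpCat.{max w v}).map (relι F.obj α) ≫
        desc F α) = relι F.obj α ≫ freeDesc F.obj α := by
    rw [Adjunction.homEquiv_naturality_left]
    congr 1
    exact unit_desc F α
  have e2 : (sheafificationAdjunction J AddCommGrpCat.{max w v}).homEquiv
      (relPre.{w} F.obj α) F 0 = 0 := by
    rw [Adjunction.homEquiv_unit]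
    have : (sheafToPresheaf J AddCommGrpCat.{max w v}).map (0 : (presheafToSheaf J
      AddCommGrpCat.{max w v}).obj (relPre.{w} F.obj α) ⟶ F) = 0 := rfl
    rw [this]
    exact comp_zero
  exact e1.trans ((relι_desc F.obj α).trans e2.symm)

/-- The map from the sheafification of the relations to the kernel. -/
def relToKer {U : C} (F : Sheaf J AddCommGrpCat.{max w v}) (α : F.obj.obj (op U)) :
    (presheafToSheaf J AddCommGrpCat.{max w v}).obj (relPre.{w} F.obj α) ⟶ kernel (desc F α) :=
  kernel.lift _ _ (map_relι_desc F α)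

omit [HasSheafify J AddCommGrpCat.{max w v}] in
/-- Monomorphisms of abelian sheaves are injective on sections. -/
theorem app_injective_of_mono {F G : Sheaf J AddCommGrpCat.{max w v}} (φ : F ⟶ G) [Mono φ]
    (V : Cᵒᵖ) : Function.Injective (φ.hom.app V) := by
  have h1 : Mono ((sheafToPresheaf J AddCommGrpCat.{max w v}).map φ) := inferInstance
  have h2 : Mono φ.hom := h1
  have h3 : Mono (φ.hom.app V) := inferInstance
  exact (AddCommGrpCat.mono_iff_injective _).1 h3

variable [J.WEqualsLocallyBijective AddCommGrpCat.{max w v}]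
  [J.HasSheafCompose (forget AddCommGrpCat.{max w v})]

instance epi_relToKer {U : C} (F : Sheaf J AddCommGrpCat.{max w v}) (α : F.obj.obj (op U)) :
    Epi (relToKer F α) := by
  rw [← Sheaf.isLocallySurjective_iff_epi']
  constructor
  intro V s
  set z := (kernel.ι (desc F α)).hom.app (op V) s with hz
  have hloc : Presheaf.IsLocallySurjective J (unit.{w} J U) :=
    (J.W_toSheafify (freePre.{w} U)).isLocallySurjective
  refine J.superset_covering ?_ (Presheaf.imageSieve_mem J (unit.{w} J U) z)
  rintro W g ⟨c, hc⟩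
  have hc0 : (freeDesc F.obj α).app (op W) c = 0 := by
    have h1 := ConcreteCategory.congr_hom (congrArg (fun y => y.app (op W)) (unit_desc.{w} F α)) c
    refine h1.symm.trans ?_
    change (desc F α).hom.app (op W) ((unit.{w} J U).app (op W) c) = 0
    rw [hc]
    have h2 := ConcreteCategory.congr_hom ((desc F α).hom.naturality g.op) z
    rw [ConcreteCategory.comp_apply, ConcreteCategory.comp_apply] at h2
    rw [h2, hz]
    have h3 := ConcreteCategory.congr_hom (congrArg (fun y => y.hom.app (op V))
      (kernel.condition (desc F α))) s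
    have h4 : (desc F α).hom.app (op V) ((kernel.ι (desc F α)).hom.app (op V) s) = 0 := h3
    rw [h4, map_zero]
  refine ⟨(toSheafify J (relPre.{w} F.obj α)).app (op W) ⟨c, hc0⟩, ?_⟩
  apply app_injective_of_mono.{w} (kernel.ι (desc F α))
  have h5 : relToKer F α ≫ kernel.ι (desc F α) = (presheafToSheaf J
      AddCommGrpCat.{max w v}).map (relι F.obj α) := kernel.lift_ι _ _ _
  have h6 := ConcreteCategory.congr_hom (congrArg (fun y => y.hom.app (op W)) h5)
    ((toSheafify J (relPre.{w} F.obj α)).app (op W) ⟨c, hc0⟩)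
  refine h6.trans ?_
  have h7 : toSheafify J (relPre.{w} F.obj α) ≫ ((presheafToSheaf J
      AddCommGrpCat.{max w v}).map (relι F.obj α)).hom = relι F.obj α ≫ unit.{w} J U :=
    (toSheafify_naturality J (relι F.obj α)).symm
  have h8 := ConcreteCategory.congr_hom (NatTrans.congr_app h7 (op W)) ⟨c, hc0⟩
  refine h8.trans ?_
  change (unit.{w} J U).app (op W) c = _
  rw [hc, hz]
  exact (ConcreteCategory.congr_hom ((kernel.ι (desc F α)).hom.naturality g.op) s).symm

/-- Morphisms out of the kernel vanish if the morphisms out of the presheaf of relations vanish. -/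
theorem hom_kernel_eq_zero {U : C} (F : Sheaf J AddCommGrpCat.{max w v}) (α : F.obj.obj (op U))
    (G : Sheaf J AddCommGrpCat.{max w v})
    (hG : ∀ δ : relPre.{w} F.obj α ⟶ G.obj, δ = 0) (h : kernel (desc F α) ⟶ G) : h = 0 := by
  rw [← cancel_epi (relToKer F α), comp_zero]
  apply ((sheafificationAdjunction J AddCommGrpCat.{max w v}).homEquiv _ _).injective
  exact (hG _).trans (hG _).symm

section Ext

variable [HasExt.{w'} (Sheaf J AddCommGrpCat.{max w v})]

/-- Injectivity of the pull back of extensions along the epimorphism `ZS J U ⟶ F`. -/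
theorem precomp_injective {U : C} (F : Sheaf J AddCommGrpCat.{max w v}) (α : F.obj.obj (op U))
    (G : Sheaf J AddCommGrpCat.{max w v}) (hepi : Epi (desc F α))
    (hG : ∀ δ : relPre.{w} F.obj α ⟶ G.obj, δ = 0) :
    Function.Injective ((Ext.mk₀ (desc.{w} F α)).precomp G (zero_add 1) :
      Ext.{w'} F G 1 → Ext.{w'} (ZS.{w} J U) G 1) := by
  rw [injective_iff_map_eq_zero]
  intro x hx
  have hS : (ShortComplex.mk (kernel.ι (desc F α)) (desc F α) (kernel.condition _)).ShortExact :=
    { exact := ShortComplex.exact_kernel (desc F α) }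
  obtain ⟨y, hy⟩ := Ext.contravariant_sequence_exact₃ hS G x hx (add_zero 1)
  obtain ⟨h, rfl⟩ := (Ext.mk₀_bijective _ _).2 y
  rw [hom_kernel_eq_zero F α G hG h, Ext.mk₀_zero, Ext.comp_zero] at hy
  exact hy.symm

end Ext

end Groth.Agent.Etdl.H562.FreeSheaf
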