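import Mathlib.CategoryTheory.Sites.EpiMono
import Mathlib.CategoryTheory.Sites.Abelian
import Mathlib.CategoryTheory.Sites.ConstantSheaf
import Mathlib.Algebra.Category.Grp.Abelian
import Mathlib.Algebra.Category.Grp.Adjunctions
import Mathlib.GroupTheory.FreeAbelianGroup
import Mathlib.CategoryTheory.Limits.Shapes.ConcreteCategory
import Mathlib.Algebra.Homology.ShortComplex.Ab

/-!
# The free abelian sheaf on a representable

For a site `(C, J)` and `U : C`: `ZS J U` is the sheafification of `V ↦ ℤ[Hom(V, U)]`.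
* `homEquiv : (ZS J U ⟶ F) ≃+ F(U)`, natural in `F`.
* `epi_of_gen`: the morphism attached to `α ∈ F(U)` is an epimorphism if every section is, locally, in the group
  generated by the pull backs of `α`.
* `hom_kernel_eq_zero`: morphisms from the kernel, in terms of the presheaf of relations.
-/

set_option autoImplicit false

universe w v u

open CategoryTheory CategoryTheory.Limits Opposite

noncomputable section

namespace Groth.Agent.Etdl.H562.FreeSheaf

variable {C : Type u} [Category.{v} C]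

/-- The presheaf `V ↦ ℤ[Hom(V, U)]`. -/
def freePre (U : C) : Cᵒᵖ ⥤ AddCommGrpCat.{max w v} where
  obj V := AddCommGrpCat.of (FreeAbelianGroup (ULift.{w} (V.unop ⟶ U)))
  map g := AddCommGrpCat.ofHom (FreeAbelianGroup.map (fun t => ⟨g.unop ≫ t.down⟩))
  map_id V := by
    refine AddCommGrpCat.hom_ext (FreeAbelianGroup.lift_ext _ _ fun t => ?_)
    change FreeAbelianGroup.map _ (FreeAbelianGroup.of t) = FreeAbelianGroup.of t
    rw [FreeAbelianGroup.map_of_apply, unop_id, Category.id_comp]
  map_comp g h := by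
    refine AddCommGrpCat.hom_ext (FreeAbelianGroup.lift_ext _ _ fun t => ?_)
    change FreeAbelianGroup.map _ (FreeAbelianGroup.of t) =
      FreeAbelianGroup.map _ (FreeAbelianGroup.map _ (FreeAbelianGroup.of t))
    simp only [FreeAbelianGroup.map_of_apply, unop_comp, Category.assoc]

/-- The generator attached to `t : V ⟶ U`. -/
def gen {U V : C} (t : V ⟶ U) : (freePre.{w} U).obj (op V) := FreeAbelianGroup.of ⟨t⟩

theorem map_gen {U V W : C} (g : W ⟶ V) (t : V ⟶ U) :
    (freePre.{w} U).map g.op (gen t) = gen (g ≫ t) :=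
  FreeAbelianGroup.map_of_apply _

theorem freePre_induction {U V : C} {p : (freePre.{w} U).obj (op V) → Prop}
    (z : (freePre.{w} U).obj (op V)) (h0 : p 0) (hgen : ∀ t : V ⟶ U, p (gen t))
    (hneg : ∀ t : V ⟶ U, p (gen t) → p (- gen t)) (hadd : ∀ x y, p x → p y → p (x + y)) : p z :=
  FreeAbelianGroup.induction_on z h0 (fun t => hgen t.down) (fun t => hneg t.down) hadd

theorem freePre_hom_ext {U : C} {P : Cᵒᵖ ⥤ AddCommGrpCat.{max w v}} {φ ψ : freePre.{w} U ⟶ P}
    (h : φ.app (op U) (gen (𝟙 U)) = ψ.app (op U) (gen (𝟙 U))) : φ = ψ := by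
  ext V : 2
  refine AddCommGrpCat.hom_ext (FreeAbelianGroup.lift_ext _ _ fun t => ?_)
  have key : ∀ χ : freePre.{w} U ⟶ P, χ.app V (gen t.down) =
      P.map t.down.op (χ.app (op U) (gen (𝟙 U))) := by
    intro χ
    have h1 := ConcreteCategory.congr_hom (χ.naturality t.down.op) (gen (𝟙 U))
    have h2 : (freePre.{w} U).map t.down.op (gen (𝟙 U)) = gen t.down := by
      rw [map_gen, Category.comp_id]
    rw [ConcreteCategory.comp_apply, ConcreteCategory.comp_apply, h2] at h1
    exact h1
  exact (key φ).trans ((congrArg _ h).trans (key ψ).symm)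

/-- The map out of the free presheaf attached to a section. -/
def freeDesc {U : C} (P : Cᵒᵖ ⥤ AddCommGrpCat.{max w v}) (s : P.obj (op U)) :
    freePre.{w} U ⟶ P where
  app V := AddCommGrpCat.ofHom (FreeAbelianGroup.lift (fun t => P.map t.down.op s))
  naturality V W g := by
    refine AddCommGrpCat.hom_ext (FreeAbelianGroup.lift_ext _ _ fun t => ?_)
    change FreeAbelianGroup.lift _ (FreeAbelianGroup.map _ (FreeAbelianGroup.of t)) =
      P.map g (FreeAbelianGroup.lift _ (FreeAbelianGroup.of t))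
    rw [FreeAbelianGroup.map_of_apply, FreeAbelianGroup.lift_apply_of,
      FreeAbelianGroup.lift_apply_of]
    change P.map (g.unop ≫ t.down).op s = _
    rw [op_comp, Functor.map_comp]
    rfl

theorem freeDesc_gen {U V : C} (P : Cᵒᵖ ⥤ AddCommGrpCat.{max w v}) (s : P.obj (op U)) (t : V ⟶ U) :
    (freeDesc P s).app (op V) (gen t) = P.map t.op s :=
  FreeAbelianGroup.lift_apply_of _ _

variable (J : GrothendieckTopology C) [HasSheafify J AddCommGrpCat.{max w v}]

/-- The free abelian sheaf on `U`. -/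
def ZS (U : C) : Sheaf J AddCommGrpCat.{max w v} := (presheafToSheaf J _).obj (freePre.{w} U)

/-- The unit of sheafification. -/
def unit (U : C) : freePre.{w} U ⟶ (ZS.{w} J U).obj := toSheafify J (freePre.{w} U)

/-- The canonical section of `ZS J U` over `U`. -/
def one (U : C) : (ZS.{w} J U).obj.obj (op U) := (unit.{w} J U).app (op U) (gen (𝟙 U))

variable {J}

theorem hom_ext {U : C} {F : Sheaf J AddCommGrpCat.{max w v}} {φ ψ : ZS.{w} J U ⟶ F}
    (h : φ.hom.app (op U) (one.{w} J U) = ψ.hom.app (op U) (one.{w} J U)) : φ = ψ := by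
  apply ((sheafificationAdjunction J AddCommGrpCat.{max w v}).homEquiv _ _).injective
  have e : ∀ χ : ZS.{w} J U ⟶ F, (sheafificationAdjunction J AddCommGrpCat.{max w v}).homEquiv
      (freePre.{w} U) F χ = unit.{w} J U ≫ χ.hom := fun χ => rfl
  rw [e, e]
  exact freePre_hom_ext h

/-- The morphism attached to a section. -/
def desc {U : C} (F : Sheaf J AddCommGrpCat.{max w v}) (s : F.obj.obj (op U)) : ZS.{w} J U ⟶ F :=
  ((sheafificationAdjunction J AddCommGrpCat.{max w v}).homEquiv (freePre.{w} U) F).symm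
    (freeDesc F.obj s)

theorem unit_desc {U : C} (F : Sheaf J AddCommGrpCat.{max w v}) (s : F.obj.obj (op U)) :
    unit.{w} J U ≫ (desc F s).hom = freeDesc F.obj s :=
  ((sheafificationAdjunction J AddCommGrpCat.{max w v}).homEquiv (freePre.{w} U) F).apply_symm_apply
    (freeDesc F.obj s)

theorem desc_one {U : C} (F : Sheaf J AddCommGrpCat.{max w v}) (s : F.obj.obj (op U)) :
    (desc F s).hom.app (op U) (one.{w} J U) = s := by
  have h := ConcreteCategory.congr_hom (congrArg (fun z => z.app (op U)) (unit_desc.{w} F s))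
    (gen (𝟙 U))
  have h2 : (freeDesc F.obj s).app (op U) (gen (𝟙 U)) = s := by
    rw [freeDesc_gen, op_id, F.obj.map_id]
    rfl
  exact h.trans h2

/-- `Hom(ZS J U, F) ≃+ F(U)`. -/
def homEquiv (U : C) (F : Sheaf J AddCommGrpCat.{max w v}) :
    (ZS.{w} J U ⟶ F) ≃+ F.obj.obj (op U) where
  toFun φ := φ.hom.app (op U) (one.{w} J U)
  invFun s := desc F s
  left_inv _ := hom_ext (desc_one F _)
  right_inv s := desc_one F s
  map_add' _ _ := rfl

theorem homEquiv_apply {U : C} {F : Sheaf J AddCommGrpCat.{max w v}} (φ : ZS.{w} J U ⟶ F) :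
    homEquiv U F φ = φ.hom.app (op U) (one.{w} J U) := rfl

theorem homEquiv_comp {U : C} {F G : Sheaf J AddCommGrpCat.{max w v}} (φ : ZS.{w} J U ⟶ F)
    (ψ : F ⟶ G) : homEquiv U G (φ ≫ ψ) = ψ.hom.app (op U) (homEquiv U F φ) := rfl

section

variable [J.WEqualsLocallyBijective AddCommGrpCat.{max w v}]

/-- Generation implies epimorphism. -/
theorem epi_of_gen [J.HasSheafCompose (forget AddCommGrpCat.{max w v})]
    {U : C} {F : Sheaf J AddCommGrpCat.{max w v}} (φ : ZS.{w} J U ⟶ F) (α : F.obj.obj (op U))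
    (hα : φ.hom.app (op U) (one.{w} J U) = α)
    (hgen : ∀ (V : C) (x : F.obj.obj (op V)), ∃ R ∈ J V, ∀ ⦃W : C⦄ (g : W ⟶ V), R g →
      F.obj.map g.op x ∈ AddSubgroup.closure (Set.range fun t : W ⟶ U => F.obj.map t.op α)) :
    Epi φ := by
  rw [← Sheaf.isLocallySurjective_iff_epi']
  constructor
  intro V x
  obtain ⟨R, hR, h⟩ := hgen V x
  refine J.superset_covering ?_ hR
  intro W g hg
  have h1 := h g hg
  rw [Presheaf.imageSieve_apply]
  change _ ∈ AddMonoidHom.range (φ.hom.app (op W)).hom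
  refine (AddSubgroup.closure_le _).2 ?_ h1
  rintro _ ⟨t, rfl⟩
  refine ⟨(ZS.{w} J U).obj.map t.op (one.{w} J U), ?_⟩
  have h2 := ConcreteCategory.congr_hom (φ.hom.naturality t.op) (one.{w} J U)
  rw [ConcreteCategory.comp_apply, ConcreteCategory.comp_apply, hα] at h2
  exact h2

end

end Groth.Agent.Etdl.H562.FreeSheaf
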