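import Groth.Agent.Etdl.H562.Compare
import Groth.Agent.Etdl.H562.FreeSheaf
import Groth.Agent.Etrest.FppfVan
import Groth.Agent.Etrest.FppfUnit
import Groth.Agent.Etcore.DerLES
import Groth.Prelude.Def_EtCore
import Groth.Prelude.Def_EtDlF

/-!
# The free abelian fppf sheaf on `X` and the small étale site of `X`

For `f : X ⟶ S`, `ZX f` is the free abelian fppf sheaf on `X`; `homComp : Hom(ZX f, F) = Hom(ℤ, F|X_et)`, naturally,
and `good_const`: constant sheaves satisfy the condition of `Compare.theta` for the restriction `uResF f`.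
-/

set_option autoImplicit false

universe u

open CategoryTheory CategoryTheory.Limits AlgebraicGeometry Opposite CategoryTheory.Abelian

noncomputable section

namespace Groth.Agent.Etdl.H562.Theta

open Groth.Agent.Etrest.BigEtSite Groth.Agent.Etrest.BigFppf Groth.Agent.Etrest.BigPush
  Groth.Agent.Etrest.BigRes

section Small

variable (X : Scheme.{u})

/-- The constant étale sheaf `ℤ`. -/
abbrev ZEt : EtCoh.Ab X :=
  (constantSheaf X.smallEtaleTopology AddCommGrpCat.{u + 1}).obj (AddCommGrpCat.of (ULift.{u + 1} ℤ))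

/-- The adjunction. -/
def adjE : constantSheaf X.smallEtaleTopology AddCommGrpCat.{u + 1} ⊣
    (sheafSections X.smallEtaleTopology AddCommGrpCat.{u + 1}).obj (op (EtCoh.top X)) :=
  constantSheafAdj X.smallEtaleTopology AddCommGrpCat.{u + 1} (EtCore.topIsTerminal X)

/-- The section `1`. -/
def oneE : (ZEt X).obj.obj (op (EtCoh.top X)) :=
  (adjE X).unit.app (AddCommGrpCat.of (ULift.{u + 1} ℤ)) (ULift.up 1)

variable {X}

theorem evalOne_bijective (M : AddCommGrpCat.{u + 1}) : Function.Bijective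
    (fun φ : AddCommGrpCat.of (ULift.{u + 1} ℤ) ⟶ M => φ (ULift.up 1)) := by
  constructor
  · intro φ ψ h
    refine AddCommGrpCat.hom_ext ?_
    have h1 : φ.hom.comp AddEquiv.ulift.symm.toAddMonoidHom =
        ψ.hom.comp AddEquiv.ulift.symm.toAddMonoidHom := by
      ext
      exact h
    exact AddMonoidHom.ext fun x => congrArg (fun χ => χ x.down) h1
  · intro m
    exact ⟨AddCommGrpCat.ofHom ((zmultiplesHom M m).comp
      (AddEquiv.ulift : ULift.{u + 1} ℤ ≃+ ℤ).toAddMonoidHom), one_zsmul m⟩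

/-- Evaluation at `1`. -/
def homZEt (G : EtCoh.Ab X) : (ZEt X ⟶ G) ≃+ G.obj.obj (op (EtCoh.top X)) :=
  AddEquiv.ofBijective (AddMonoidHom.mk' (fun φ : ZEt X ⟶ G =>
    φ.hom.app (op (EtCoh.top X)) (oneE X)) (fun _ _ => rfl))
    ((evalOne_bijective _).comp
      ((adjE X).homEquiv (AddCommGrpCat.of (ULift.{u + 1} ℤ)) G).bijective)

theorem homZEt_comp {G G' : EtCoh.Ab X} (φ : ZEt X ⟶ G) (ψ : G ⟶ G') :
    homZEt G' (φ ≫ ψ) = ψ.hom.app (op (EtCoh.top X)) (homZEt G φ) := rfl

end Small

variable {X S : Scheme.{u}} (f : X ⟶ S)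

/-- The free abelian fppf sheaf on `X`. -/
abbrev ZX : EtFppf.AbF S := FreeSheaf.ZS.{u + 1} (EtFppf.J S) (Over.mk f)

/-- `F(X) = (F|X_et)(X)`. -/
def secIso (F : EtFppf.AbF S) :
    F.obj.obj (op (Over.mk f)) ≃+ ((uResF f).obj F).obj.obj (op (EtCoh.top X)) :=
  (F.obj.mapIso (ufTop f).op).addCommGroupIsoToAddEquiv

theorem secIso_nat {F F' : EtFppf.AbF S} (φ : F ⟶ F') (x : F.obj.obj (op (Over.mk f))) :
    secIso f F' (φ.hom.app _ x) = ((uResF f).map φ).hom.app (op (EtCoh.top X)) (secIso f F x) := by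
  have h := ConcreteCategory.congr_hom (φ.hom.naturality (ufTop f).hom.op) x
  exact h.symm

/-- `Hom(ℤ[X], F) = Hom(ℤ, F|X_et)`. -/
def homComp (F : EtFppf.AbF S) : (ZX f ⟶ F) ≃+ (ZEt X ⟶ (uResF f).obj F) :=
  (FreeSheaf.homEquiv (Over.mk f) F).trans ((secIso f F).trans (homZEt _).symm)

theorem homComp_nat {F F' : EtFppf.AbF S} (q : ZX f ⟶ F) (φ : F ⟶ F') :
    homComp f F' (q ≫ φ) = homComp f F q ≫ (uResF f).map φ := by
  apply (homZEt ((uResF f).obj F')).injective
  have e1 : homZEt _ (homComp f F' (q ≫ φ)) =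
      secIso f F' (FreeSheaf.homEquiv (Over.mk f) F' (q ≫ φ)) := AddEquiv.apply_symm_apply _ _
  have e2 : homZEt _ (homComp f F q) = secIso f F (FreeSheaf.homEquiv (Over.mk f) F q) :=
    AddEquiv.apply_symm_apply _ _
  rw [homZEt_comp, e1, e2]
  exact secIso_nat f φ _

/-- The functor `uResF f` keeps `0 → F → I → Q → 0` exact if its first derived functor vanishes on `F`. -/
theorem good_of_isZero (F : EtFppf.AbF S) (h1 : IsZero (((uResF f).rightDerived 1).obj F)) :
    Compare.Good (uResF f) F := by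
  have hS := Compare.shortExact_U F
  have h2 : Epi ((uResF f).map (Compare.U F).g) :=
    Groth.Agent.Etcore.DerLES.epi_map_g (uResF f) hS h1
  have h3 : Mono ((uResF f).map (Compare.U F).f) := by
    have := hS.mono_f
    infer_instance
  have h4 : ((Compare.U F).map (uResF f)).Exact :=
    hS.exact.map_of_mono_of_preservesKernel (uResF f) hS.mono_f inferInstance
  exact { exact := h4, mono_f := h3, epi_g := h2 }

/-- The class of sheaves coming from the small étale site. -/
theorem good_of_iso_aPull [EtFppf.ACont S] (F : EtCoh.Ab S) (F' : EtFppf.AbF S)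
    (e : (EtFppf.aPull S).obj F ≅ F') : Compare.Good (uResF f) F' :=
  good_of_isZero f F' ((Groth.Agent.Etrest.FppfVan.isZero_rightDerived_uResF f F 1 one_pos).of_iso
    (((uResF f).rightDerived 1).mapIso e.symm))

/-- Constant sheaves are good. -/
theorem good_const (M : AddCommGrpCat.{u + 1}) :
    Compare.Good (uResF f) ((constantSheaf (EtFppf.J S) AddCommGrpCat.{u + 1}).obj M) :=
  haveI : EtFppf.ACont S := Groth.Agent.S0779.result S
  good_of_iso_aPull f _ _ (Groth.Agent.Etrest.FppfExact.constIso S M)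

/-- `uResF f` preserves injectives. -/
theorem injective_uResF (I : EtFppf.AbF S) (hI : Injective I) : Injective ((uResF f).obj I) :=
  Groth.Agent.Etrest.BigRes.injective_uResF f I

end Groth.Agent.Etdl.H562.Theta
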