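import Groth.Agent.Etdl.H562.ConstHom
import Groth.Agent.Etdl.H562.Abs
import Groth.Agent.Etdl.H562.Theta
import Groth.Agent.Etdl.H562.RelSheaf
import Groth.Agent.Sga4h.X144Alg
import Groth.Agent.Etbase.EtColim

/-!
# Conditional form of the theorem on extensions of the generalized Jacobian
-/

set_option autoImplicit false

universe u

open CategoryTheory CategoryTheory.Limits AlgebraicGeometry Opposite CategoryTheory.Abelian

noncomputable section

namespace Groth.Agent.Etdl.H562.Final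

open Groth.Agent.Etrest.BigFppf Groth.Agent.Etcore.ConstFGAbs ConstExt ConstHom

/-- `a⁻¹` of constant sheaves. -/
def aConstIso (S : Scheme.{u}) [EtFppf.ACont S] :
    constantSheaf S.smallEtaleTopology AddCommGrpCat.{u + 1} ⋙ EtFppf.aPull S ≅ cF S :=
  Adjunction.leftAdjointUniq
    ((constantSheafAdj S.smallEtaleTopology AddCommGrpCat.{u + 1}
      (Groth.Agent.Etrest.FppfExact.isTerminalTop S)).comp (EtFppf.aAdj S))
    (constantSheafAdj (EtFppf.J S) AddCommGrpCat.{u + 1}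
      (Over.mkIdTerminal : IsTerminal (Over.mk (𝟙 S))))

/-- The restriction of the constant fppf sheaf to `X_et`. -/
def resConstIso {X S : Scheme.{u}} (f : X ⟶ S) [EtFppf.ACont S] :
    cF S ⋙ uResF f ≅ constantSheaf X.smallEtaleTopology AddCommGrpCat.{u + 1} :=
  (Functor.isoWhiskerRight (aConstIso S).symm (uResF f)).trans
    ((Functor.associator _ _ _).trans
      ((Functor.isoWhiskerLeft _ (pullIsoF f)).trans (EtCore.pullConstIso f)))

/-- `n` kills the constant sheaf `ℤ/n`. -/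
theorem nsmul_constF (S : Scheme.{u}) (n : ℕ) :
    n • 𝟙 (EtDl.constF S (ZMod n)) = 0 := by
  have h1 : n • 𝟙 (U.{u + 1} (ZMod n)) = 0 := by
    refine AddCommGrpCat.hom_ext (AddMonoidHom.ext fun x => ?_)
    have h2 : n • x = 0 := ULift.ext _ _ (by
      rw [ULift.smul_down, nsmul_eq_mul, CharP.cast_eq_zero, zero_mul]
      rfl)
    rw [AddCommGrpCat.hom_nsmul]
    exact h2
  have h3 : (cF S).map (n • 𝟙 (U.{u + 1} (ZMod n))) = n • 𝟙 (EtDl.constF S (ZMod n)) := by
    rw [Functor.map_nsmul, (cF S).map_id]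
  rw [← h3, h1]
  exact (cF S).map_zero _ _

section

variable (k : Type u) [Field k] [IsAlgClosed k]

/-- The counting result. -/
theorem card_ext (Jc : EtFppf.AbF (Spec (CommRingCat.of k))) (n : ℕ) (hn : n ≠ 0)
    (M C : Type) [AddCommGroup M] [AddCommGroup C] [Finite M] [Finite C] (hM : ∀ m : M, n • m = 0)
    (eM : kernel (n • 𝟙 Jc) ≅ EtDl.constF (Spec (CommRingCat.of k)) M)
    (eC : cokernel (n • 𝟙 Jc) ≅ EtDl.constF (Spec (CommRingCat.of k)) C) :
    Nat.card (Ext.{u + 1} Jc (EtDl.constF (Spec (CommRingCat.of k)) (ZMod n)) 1) = Nat.card M := by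
  have : NeZero n := ⟨hn⟩
  have hF := finite_sectionsConst k (ZMod n)
  obtain ⟨h1, h2, h3⟩ := constExt k C (EtDl.constF (Spec (CommRingCat.of k)) (ZMod n)) hF
  rw [Counting.card_ext_one_iso Jc _ n (nsmul_constF _ n) eC eM h1 h3 h2, card_ext_zero,
    Groth.Agent.Sga4h.X144Alg.card_hom n hM]

/-- Generation of `Jc` by the pull backs of `α`. -/
def Gen {X S : Scheme.{u}} (f : X ⟶ S) (Jc : EtFppf.AbF S) (α : Jc.obj.obj (op (Over.mk f))) : Prop :=
  ∀ (V : Over S) (x : Jc.obj.obj (op V)), ∃ R ∈ EtFppf.J S V, ∀ ⦃W : Over S⦄ (g : W ⟶ V), R g →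
    Jc.obj.map g.op x ∈
      AddSubgroup.closure (Set.range fun t : W ⟶ Over.mk f => Jc.obj.map t.op α)

/-- Relations between the pull backs of `α` are not detected by constant sheaves. -/
def Rel {X S : Scheme.{u}} (f : X ⟶ S) (Jc : EtFppf.AbF S) (α : Jc.obj.obj (op (Over.mk f))) : Prop :=
  ∀ (M : Type) [AddCommGroup M], ∀ δ : FreeSheaf.relPre.{u + 1} Jc.obj α ⟶ (EtDl.constF S M).obj, δ = 0

/-- The result of the Kummer sequence. -/
def Kum (X : Scheme.{u}) (Jc : EtFppf.AbF (Spec (CommRingCat.of k))) : Prop :=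
  ∀ n : ℕ, (n : k) ≠ 0 → ∃ (M C : Type) (_ : AddCommGroup M) (_ : Finite M) (_ : AddCommGroup C)
    (_ : Finite C),
    Nonempty (EtDl.constF (Spec (CommRingCat.of k)) M ≅ kernel (n • 𝟙 Jc)) ∧
    Nonempty (EtDl.constF (Spec (CommRingCat.of k)) C ≅ cokernel (n • 𝟙 Jc)) ∧
    Finite (EtCoh.H X (EtCoh.const X (ZMod n)) 1) ∧
    Nat.card (EtCoh.H X (EtCoh.const X (ZMod n)) 1) ≤ Nat.card M

/-- `n` kills `M` if `constF M` is the kernel of `n`. -/
theorem nsmul_eq_zero_of_iso (Jc : EtFppf.AbF (Spec (CommRingCat.of k))) (n : ℕ)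
    (M : Type) [AddCommGroup M]
    (eM : EtDl.constF (Spec (CommRingCat.of k)) M ≅ kernel (n • 𝟙 Jc)) (m : M) : n • m = 0 := by
  have h1 : n • kernel.ι (n • 𝟙 Jc) = 0 := by
    have := kernel.condition (n • 𝟙 Jc)
    rwa [Preadditive.comp_nsmul, Category.comp_id] at this
  have h2 : n • 𝟙 (EtDl.constF (Spec (CommRingCat.of k)) M) = 0 := by
    rw [← cancel_mono eM.hom, ← cancel_mono (kernel.ι (n • 𝟙 Jc)), zero_comp, zero_comp,
      Preadditive.nsmul_comp, Preadditive.nsmul_comp, Category.id_comp, ← Preadditive.comp_nsmul, h1,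
      comp_zero]
  have h3 : (cF (Spec (CommRingCat.of k))).map (n • 𝟙 (U.{u + 1} M)) =
      (cF (Spec (CommRingCat.of k))).map 0 := by
    rw [Functor.map_nsmul, (cF (Spec (CommRingCat.of k))).map_id, Functor.map_zero]
    exact h2
  have h4 := (cFFullyFaithful k).map_injective h3
  have h5 : n • (𝟙 (U.{u + 1} M) : U.{u + 1} M ⟶ U.{u + 1} M).hom = 0 := by
    rw [← AddCommGrpCat.hom_nsmul, h4]
    rfl
  have h6 : n • (ULift.up m : ULift.{u + 1} M) = 0 := congrArg (fun φ => φ (ULift.up m)) h5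
  exact congrArg ULift.down h6

end

end Groth.Agent.Etdl.H562.Final
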