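import Groth.Agent.Etdl.H562.Final

/-!
# Conditional form of the theorem on extensions of the generalized Jacobian: the assembly
-/

set_option autoImplicit false

universe u

open CategoryTheory CategoryTheory.Limits AlgebraicGeometry Opposite CategoryTheory.Abelian

noncomputable section

namespace Groth.Agent.Etdl.H562.Final

open Groth.Agent.Etrest.BigFppf Groth.Agent.Etcore.ConstFGAbs ConstExt ConstHom

variable (k : Type u) [Field k] [IsAlgClosed k]

/-- **Conditional theorem**: `Ext¹(Jc, G) = H¹(X, G)` for `G` torsion prime to the characteristic, given an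
"Abel-Jacobi section" `α ∈ Jc(X)` satisfying `Gen` and `Rel`, and the Kummer computation `Kum`. -/
theorem main {X : Scheme.{u}} (f : X ⟶ Spec (CommRingCat.of k)) [CompactSpace X]
    [QuasiSeparatedSpace X] (Jc : EtFppf.AbF (Spec (CommRingCat.of k)))
    (α : Jc.obj.obj (op (Over.mk f))) (hgen : Gen f Jc α) (hrel : Rel f Jc α)
    (hkum : Kum k X Jc)
    (G : Type) [AddCommGroup G] (hG : ∀ g : G, ∃ n : ℕ, (n : k) ≠ 0 ∧ n • g = 0) :
    Nonempty (Abelian.Ext.{u + 1} Jc (EtDl.constF (Spec (CommRingCat.of k)) G) 1 ≃+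
      EtCoh.H X (EtCoh.const X G) 1) := by
  classical
  have : EtFppf.ACont (Spec (CommRingCat.of k)) := Groth.Agent.S0779.result _
  have hepi : Epi (FreeSheaf.desc.{u + 1} Jc α) :=
    FreeSheaf.epi_of_gen.{u + 1} (FreeSheaf.desc.{u + 1} Jc α) α (FreeSheaf.desc_one Jc α) hgen
  have hcolim : HasColimitsOfShape (Idx.{u + 1} G) (EtCoh.Ab X) := inferInstance
  have hadj : (constantSheaf X.smallEtaleTopology AddCommGrpCat.{u + 1}).IsLeftAdjoint :=
    (Theta.adjE X).isLeftAdjoint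
  have hn0 : ∀ n : ℕ, (n : k) ≠ 0 → n ≠ 0 := by
    rintro n hn rfl
    exact hn Nat.cast_zero
  refine Abs.main (Theta.homComp f) (Theta.homComp_nat f) (Theta.injective_uResF f)
    (resConstIso f) (fun M => Theta.good_const f M) (FreeSheaf.desc.{u + 1} Jc α) ?_
    (fun n => (n : k) ≠ 0) hn0 ?_ ?_ ?_ G hG ?_
  · intro M _
    exact FreeSheaf.precomp_injective.{u + 1} Jc α (EtDl.constF _ M) hepi (hrel M)
  · rintro m n hn ⟨c, rfl⟩ hm
    apply hn
    rw [Nat.cast_mul, hm, zero_mul]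
  · intro n hn
    obtain ⟨M, C, _, _, _, _, ⟨eM⟩, ⟨eC⟩, hf, hc⟩ := hkum n hn
    exact hf
  · intro n hn
    obtain ⟨M, C, _, _, _, _, ⟨eM⟩, ⟨eC⟩, hf, hc⟩ := hkum n hn
    exact hc.trans_eq (card_ext k Jc n (hn0 n hn) M C (nsmul_eq_zero_of_iso k Jc n M eM)
      eM.symm eC.symm).symm
  · exact Groth.Agent.Etbase.EtColim.fp_const X (Idx.{u + 1} G) 1

end Groth.Agent.Etdl.H562.Final
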