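import Groth.Prelude.Def_EtDlF
import Groth.Agent.Etdl.H562.FreeSheaf
import Mathlib.AlgebraicGeometry.AlgClosed.Basic
import Mathlib.CategoryTheory.Sites.PrecoverageToGrothendieck
import Mathlib.CategoryTheory.Preadditive.Projective.Basic
import Mathlib.Algebra.Homology.DerivedCategory.Ext.EnoughProjectives
import Mathlib.RingTheory.Flat.Localization
import Mathlib.AlgebraicGeometry.Morphisms.Flat

/-!
# fppf sheaves on the spectrum of an algebraically closed field

* `cover_eq_top`: every fppf covering sieve of `Spec k` is trivial.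
* `projective_constF_int`: the constant sheaf `ℤ` is projective on the big fppf site of `Spec k`.
-/

set_option autoImplicit false

universe u

open CategoryTheory CategoryTheory.Limits AlgebraicGeometry Opposite CategoryTheory.Abelian

noncomputable section

namespace Groth.Agent.Etdl.H562.ProjZ

variable (k : Type u) [Field k] [IsAlgClosed k]

/-- A nonempty scheme locally of finite type over `k` has a rational point. -/
theorem exists_section {Y : Scheme.{u}} (f : Y ⟶ Spec (CommRingCat.of k)) [LocallyOfFiniteType f]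
    [Nonempty Y] : ∃ s : Spec (CommRingCat.of k) ⟶ Y, s ≫ f = 𝟙 _ := by
  have hJ : JacobsonSpace Y := LocallyOfFiniteType.jacobsonSpace f
  have h1 : closure ((Set.univ : Set Y) ∩ closedPoints Y) = Set.univ :=
    JacobsonSpace.closure_inter_closedPoints isClosed_univ
  have h2 : (closedPoints Y).Nonempty := by
    by_contra h
    rw [Set.not_nonempty_iff_eq_empty] at h
    rw [h, Set.inter_empty, closure_empty] at h1
    exact Set.empty_ne_univ h1
  obtain ⟨x, hx⟩ := h2
  exact ⟨pointOfClosedPoint f x hx, pointOfClosedPoint_comp f x hx⟩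

/-- Every fppf covering sieve of `Spec k` is trivial. -/
theorem cover_eq_top' (R : Sieve (Spec (CommRingCat.of k)))
    (hR : R ∈ Scheme.fppfTopology (Spec (CommRingCat.of k))) : R = ⊤ := by
  have hid : (@Flat ⊓ @LocallyOfFinitePresentation : MorphismProperty Scheme.{u}).ContainsIdentities :=
    ⟨fun X => ⟨inferInstanceAs (Flat (𝟙 X)), inferInstanceAs (LocallyOfFinitePresentation (𝟙 X))⟩⟩
  have : Scheme.fppfPrecoverage.{u}.HasIsos := inferInstanceAs
    ((Scheme.precoverage (@Flat ⊓ @LocallyOfFinitePresentation)).HasIsos)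
  rw [Precoverage.mem_toGrothendieck_iff_of_isStableUnderComposition] at hR
  obtain ⟨R', hR', hle⟩ := hR
  obtain ⟨ι, Y, f, rfl⟩ := R'.exists_eq_ofArrows
  rw [Scheme.fppfPrecoverage, Scheme.ofArrows_mem_precoverage_iff] at hR'
  obtain ⟨i, y, hy⟩ := hR'.1 (IsLocalRing.closedPoint k)
  obtain ⟨_, hfp⟩ := hR'.2 i
  have : Nonempty (Y i) := ⟨y⟩
  have : LocallyOfFinitePresentation (f i) := hfp
  obtain ⟨s, hs⟩ := exists_section k (f i)
  rw [← Sieve.id_mem_iff_eq_top, ← hs]
  exact R.downward_closed (hle _ _ ⟨i⟩) s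

/-- Every covering sieve of the final object of the big fppf site of `Spec k` is trivial. -/
theorem cover_eq_top (R : Sieve (Over.mk (𝟙 (Spec (CommRingCat.of k)))))
    (hR : R ∈ EtFppf.J (Spec (CommRingCat.of k)) _) : R = ⊤ := by
  rw [GrothendieckTopology.mem_over_iff] at hR
  have h1 := cover_eq_top' k _ hR
  exact (Sieve.overEquiv _).injective (h1.trans (by simp))

variable {k}

/-- Epimorphisms of abelian fppf sheaves are surjective on global sections. -/
theorem surjective_of_epi {F G : EtFppf.AbF (Spec (CommRingCat.of k))} (φ : F ⟶ G) [Epi φ] :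
    Function.Surjective (φ.hom.app (op (Over.mk (𝟙 (Spec (CommRingCat.of k)))))) := by
  intro s
  have h1 : Sheaf.IsLocallySurjective φ := by
    rw [Sheaf.isLocallySurjective_iff_epi']
    infer_instance
  have h2 := Presheaf.imageSieve_mem (EtFppf.J (Spec (CommRingCat.of k))) φ.hom s
  have h3 := cover_eq_top k _ h2
  have h4 : (Presheaf.imageSieve φ.hom s) (𝟙 _) := by
    rw [h3]
    exact Sieve.top_apply _
  obtain ⟨t, ht⟩ := h4
  refine ⟨t, ht.trans ?_⟩
  rw [op_id, G.obj.map_id]
  rfl

/-- The constant sheaf `ℤ` is projective. -/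
instance projective_constF_int : Projective (EtDl.constF (Spec (CommRingCat.of k)) ℤ) where
  factors {E X} f e he := by
    let T : Over (Spec (CommRingCat.of k)) := Over.mk (𝟙 _)
    have hT : IsTerminal T := Over.mkIdTerminal
    let adj := constantSheafAdj (EtFppf.J (Spec (CommRingCat.of k))) AddCommGrpCat.{u + 1} hT
    let f' := adj.homEquiv _ _ f
    obtain ⟨y, hy⟩ := surjective_of_epi e (f' (ULift.up (1 : ℤ)))
    let g' : AddCommGrpCat.of (ULift.{u + 1} ℤ) ⟶
        ((sheafSections (EtFppf.J (Spec (CommRingCat.of k))) AddCommGrpCat.{u + 1}).obj ⟨T⟩).obj E :=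
      AddCommGrpCat.ofHom ((zmultiplesHom _ y).comp AddEquiv.ulift.toAddMonoidHom)
    refine ⟨(adj.homEquiv _ _).symm g', ?_⟩
    apply (adj.homEquiv _ _).injective
    rw [Adjunction.homEquiv_naturality_right, Equiv.apply_symm_apply]
    refine AddCommGrpCat.hom_ext ?_
    ext ⟨n⟩
    have h1 : g' (ULift.up n) = n • y := rfl
    have h2 : f' (ULift.up n) = n • f' (ULift.up 1) := by
      rw [← map_zsmul f'.hom]
      congr 1
      exact congrArg ULift.up (mul_one n).symm
    change e.hom.app (op T) (g' (ULift.up n)) = f' (ULift.up n)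
    rw [h1, h2, map_zsmul (e.hom.app (op T)).hom]
    exact congrArg (fun z => n • z) hy

end Groth.Agent.Etdl.H562.ProjZ
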